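import Groth.Agent.SchCover.Nhd
import Groth.Agent.AlgSpB.OpenGlue
import Groth.Agent.AlgSp.QCMor

/-!
# Scheme covers of algebraic spaces by split normalizations
-/

universe u

open CategoryTheory CategoryTheory.Limits AlgebraicGeometry Opposite

set_option backward.isDefEq.respectTransparency false

namespace Groth.Agent.SchCover

open Groth.Agent _root_.AlgSp

variable {S : Scheme.{u}}

/-- A scheme over a pair of separated schemes by jointly monic maps is separated. -/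
theorem isSeparated_of_rel {F : AlgSp.Sp S} {A B P : Over S} [A.left.IsSeparated] [B.left.IsSeparated]
    {a : (yon S).obj A ⟶ F} {b : (yon S).obj B ⟶ F} {p : P ⟶ A} {q : P ⟶ B}
    (sP : IsPullback ((yon S).map p) ((yon S).map q) a b) : P.left.IsSeparated := by
  have hw : p.left ≫ A.hom = q.left ≫ B.hom := by rw [Over.w p, Over.w q]
  have : Mono (pullback.lift p.left q.left hw : P.left ⟶ pullback A.hom B.hom) := by
    refine ⟨fun {Z} g1 g2 e => ?_⟩
    have e1 : g1 ≫ p.left = g2 ≫ p.left := by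
      simpa only [Category.assoc, pullback.lift_fst] using congrArg (· ≫ pullback.fst A.hom B.hom) e
    have e2 : g1 ≫ q.left = g2 ≫ q.left := by
      simpa only [Category.assoc, pullback.lift_snd] using congrArg (· ≫ pullback.snd A.hom B.hom) e
    let Z' : Over S := Over.mk (g1 ≫ P.hom)
    let a1 : Z' ⟶ P := Over.homMk g1 rfl
    let a2 : Z' ⟶ P := Over.homMk g2 (by
      change g2 ≫ P.hom = g1 ≫ P.hom
      rw [← Over.w p, reassoc_of% e1])
    have : a1 = a2 := (yon S).map_injective (sP.hom_ext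
      (by simp only [← Functor.map_comp]; exact congrArg _ (Over.OverMorphism.ext e1))
      (by simp only [← Functor.map_comp]; exact congrArg _ (Over.OverMorphism.ext e2)))
    exact congrArg (fun m : Z' ⟶ P => m.left) this
  have : IsSeparated B.hom := inferInstance
  have : IsSeparated p.left := by
    rw [← pullback.lift_fst p.left q.left hw]; infer_instance
  exact Scheme.IsSeparated.mk (by
    rw [terminal.hom_ext (terminal.from P.left) (p.left ≫ terminal.from A.left)]; infer_instance)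

/-- A map from an affine scheme to a space is quasi-separated. -/
theorem isQuasiSeparatedMor_of_affine (X : Space S) {T : Over S} [IsAffine T.left]
    (f : (yon S).obj T ⟶ X.obj) : IsQuasiSeparatedMor f := by
  obtain ⟨P, p, q, sP⟩ := AlgSpB.exists_pullback_yon (X.property.representable_from_yon f) f
  obtain ⟨δ, hδ⟩ := (yon S).map_surjective (sP.lift (𝟙 _) (𝟙 _) rfl)
  have hδp : δ ≫ p = 𝟙 T := (yon S).map_injective (by rw [Functor.map_comp, hδ, sP.lift_fst, (yon S).map_id])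
  have := isSeparated_of_rel sP
  have : IsClosedImmersion δ.left := by
    have : IsClosedImmersion (δ.left ≫ p.left) := by
      rw [← Over.comp_left, hδp, Over.id_left]; infer_instance
    exact IsClosedImmersion.of_comp δ.left p.left
  change RepWith @QuasiCompact (pullback.diagonal f)
  have e : pullback.diagonal f = (yon S).map δ ≫ sP.isoPullback.hom := by
    apply pullback.hom_ext
    · rw [pullback.diagonal_fst, Category.assoc, IsPullback.isoPullback_hom_fst, hδ, sP.lift_fst]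
    · rw [pullback.diagonal_snd, Category.assoc, IsPullback.isoPullback_hom_snd, hδ, sP.lift_snd]
  rw [e, MorphismProperty.cancel_right_of_respectsIso (RepWith (S := S) @QuasiCompact)]
  exact (repWith_yon_map_iff _ _).2 (inferInstanceAs (QuasiCompact δ.left))

/-- The image of an integral morphism is closed. -/
theorem isClosed_range_of_integral (X : Space S) {X' : AlgSp.Sp S} (ν : X' ⟶ X.obj) (hν : IsIntegralMor ν) :
    IsClosed (Set.range (AlgSp.Points.map ν)) := by
  obtain ⟨ι, U, b, hU, hb, hs⟩ := Groth.Agent.AlgSp.exists_affine_family X.property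
  rw [← isOpen_compl_iff, isOpen_iff_forall_mem_open]
  intro x hx
  obtain ⟨k, u, rfl⟩ := hs x
  obtain ⟨W, i, fst, sX, -, hi⟩ := hν (hU k) (b k)
  refine ⟨AlgSp.Points.ofPt (b k) '' (Set.range i.left)ᶜ, ?_,
    AlgSpB.isOpenMap_ofPt (hb k) _ i.left.isClosedMap.isClosed_range.isOpen_compl, u, ?_, rfl⟩
  · rintro _ ⟨u', hu', rfl⟩ ⟨x', hx'⟩
    obtain ⟨w, -, hw⟩ := AlgSpB.exists_of_isPullback sX x' (AlgSp.Points.ofScheme (U k) u')
      (hx'.trans (AlgSp.Points.ofPt_eq_map_ofScheme _ _))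
    refine hu' ⟨AlgSp.Points.toScheme W w, ?_⟩
    rw [← AlgSp.Points.toScheme_ofPt, AlgSp.Points.ofPt_eq_map_ofScheme, AlgSp.Points.ofScheme_toScheme, hw,
      AlgSp.Points.toScheme_ofScheme]
  · rintro ⟨w, rfl⟩
    refine hx ⟨AlgSp.Points.ofPt fst w, ?_⟩
    rw [AlgSp.Points.map_ofPt, sX.w, AlgSpB.ofPt_map_comp]

/-- The normalization of a space in an affine scheme whose pullbacks to the charts are split is a
scheme, locally factoring through the atlas. -/
theorem exists_scheme_of_split_of_qc (X : Space S)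
    {T : Over S} [IsAffine T.left] (f : (yon S).obj T ⟶ X.obj) (hqc : IsQuasiCompactMor f) {U : Over S} (b : (yon S).obj U ⟶ X.obj)
    (hb : RepWith @Etale b) (hbs : RepWith @Surjective b)
    (hsplit : ∀ O : U.left.Opens, IsAffineOpen O → ∀ (D : Over S) (dT : D ⟶ T) (d : D ⟶ Over.mk (O.ι ≫ U.hom)),
      IsPullback ((yon S).map dT) ((yon S).map d) f
        ((yon S).map (Over.homMk O.ι rfl : Over.mk (O.ι ≫ U.hom) ⟶ U) ≫ b) →
      D.left.IsSeparated → CompactSpace ↥D.left → Etale dT.left →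
      ∀ z : ↥D.left, ∃ N : D.left.Opens, IsClosed (N : Set ↥D.left) ∧ z ∈ N ∧ Mono (N.ι ≫ dT.left)) :
    ∃ (Y : Over S) (g : (yon S).obj Y ⟶ X.obj) (f' : (yon S).obj T ⟶ (yon S).obj Y),
      Groth.Agent.AlgSp.IsSmoothNorm f g f' ∧ RepWith @IsIntegralHom g ∧
      ∀ y : ↥Y.left, ∃ (W : Y.left.Opens) (c : Over.mk (W.ι ≫ Y.hom) ⟶ U), y ∈ W ∧
        (yon S).map c ≫ b = (yon S).map (Over.homMk W.ι rfl : Over.mk (W.ι ≫ Y.hom) ⟶ Y) ≫ g := by
  have : CompactSpace ↥T.left := inferInstance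
  obtain ⟨X', ν, f', hX', hν⟩ := Groth.Agent.AlgSp.exists_isSmoothNorm (IsAlgSpace.yon_obj T) X.property f hqc
    (isQuasiSeparatedMor_of_affine X f)
  have key : ∀ x : AlgSp.Points X', ∃ (Y₀ : Over S) (j : (yon S).obj Y₀ ⟶ X') (c : Y₀ ⟶ U),
      RepWith @IsOpenImmersion j ∧ x ∈ Set.range (AlgSp.Points.ofPt j) ∧ j ≫ ν = (yon S).map c ≫ b := by
    intro x
    obtain ⟨u, hu⟩ := AlgSpB.surjective_ofPt hbs (AlgSp.Points.map ν x)
    obtain ⟨O, hO, huO, -⟩ := exists_isAffineOpen_mem_and_subset (x := u) (U := (⊤ : U.left.Opens)) trivial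
    let U₁ : Over S := Over.mk (O.ι ≫ U.hom)
    let o : U₁ ⟶ U := Over.homMk O.ι rfl
    have hU₁ : IsAffine U₁.left := hO
    have : IsOpenImmersion o.left := inferInstanceAs (IsOpenImmersion O.ι)
    have hb₁ : RepWith @Etale ((yon S).map o ≫ b) := AlgSpB.repWith_etale_map_comp o hb
    obtain ⟨D, d, dT, sD⟩ := AlgSpB.exists_pullback_yon hb₁.1 f
    have hdT : Etale dT.left := hb₁.2 _ _ _ sD
    have := isSeparated_of_rel sD
    have hDc : CompactSpace ↥D.left := by
      have := Groth.Agent.AlgSp.compactSpace_points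
        (hqc (IsAlgSpace.yon_obj U₁) (Groth.Agent.AlgSp.isQuasiCompactSp_yon U₁) _ _ _ sD.flip)
      exact Groth.Agent.AlgSp.compactSpace_of_yon D
    obtain ⟨Y₀, j, c, hj, hxj, hc⟩ := exists_scheme_nhd hX' f ν f' hν ((yon S).map o ≫ b) hb₁ d dT sD.flip
      (hsplit O hO D dT d sD.flip ‹_› hDc hdT) x
      ⟨(⟨u, huO⟩ : ↥O), (AlgSpB.ofPt_map_comp o b _).trans hu⟩
    exact ⟨Y₀, j, c ≫ o, hj, hxj, by rw [hc, Functor.map_comp, Category.assoc]⟩
  let X'₀ : Space S := ⟨X', hX'⟩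
  obtain ⟨M, m, hm, hrep, hmax⟩ := AlgSpB.exists_largest_open_subscheme X'₀
  have hsurj : Set.range (AlgSp.Points.map m.hom) = Set.univ := by
    refine Set.eq_univ_of_forall fun x => ?_
    obtain ⟨Y₀, j, c, hj, ⟨y, hy⟩, -⟩ := key x
    let Y₁ : Space S := ⟨(yon S).obj Y₀, IsAlgSpace.yon_obj Y₀⟩
    let j₁ : Y₁ ⟶ X'₀ := ObjectProperty.homMk j
    obtain ⟨k, hk⟩ := hmax Y₁ j₁ hj ⟨⟨_, ⟨representableByOfIso (Iso.refl _)⟩⟩⟩
    refine ⟨AlgSp.Points.map k.hom (AlgSp.Points.ofScheme Y₀ y), ?_⟩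
    rw [← AlgSp.Points.map_comp, show k.hom ≫ m.hom = j from congrArg (fun g => g.hom) hk,
      ← AlgSp.Points.ofPt_eq_map_ofScheme, hy]
  obtain ⟨l, hl⟩ := (AlgSpB.exists_factor_isOpenImmersion_iff hm (𝟙 X')).2
    (by rw [hsurj]; exact Set.subset_univ _)
  have := AlgSpB.mono_of_isOpenImmersion hm
  obtain ⟨Y, ⟨e⟩⟩ := AlgSpB.exists_iso_of_isRepresentable hrep
  let ε : (yon S).obj Y ≅ X' := e ≪≫ ⟨m.hom, l, by
    rw [← cancel_mono m.hom, Category.assoc, hl, Category.comp_id, Category.id_comp], hl⟩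
  have hν' : Groth.Agent.AlgSp.IsSmoothNorm f (ε.hom ≫ ν) (f' ≫ ε.inv) := by
    refine ⟨by simp [hν.1], (AlgSpD.isIntegralMor_iff _).2 ((MorphismProperty.cancel_left_of_respectsIso _ _ _).2
      ((AlgSpD.isIntegralMor_iff ν).1 hν.2.1)), fun A hA a ha => ?_⟩
    exact Groth.Agent.AlgSp.isNormOn_of_iso ε.symm rfl (by simp) (hν.2.2 A hA a ha)
  refine ⟨Y, ε.hom ≫ ν, f' ≫ ε.inv, hν', (AlgSpD.isIntegralMor_iff _).1 hν'.2.1, fun y => ?_⟩
  obtain ⟨Y₀, j, c, hj, ⟨y₀, hy₀⟩, hc⟩ := key (AlgSp.Points.map ε.hom (AlgSp.Points.ofScheme Y y))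
  obtain ⟨j₀, hj₀⟩ := (yon S).map_surjective (j ≫ ε.inv)
  have hjo : IsOpenImmersion j₀.left :=
    (repWith_yon_map_iff _ _).1 (hj₀ ▸ (MorphismProperty.cancel_right_of_respectsIso _ _ _).2 hj)
  let e' := Scheme.Hom.isoOpensRange j₀.left
  let c' : Over.mk (j₀.left.opensRange.ι ≫ Y.hom) ⟶ Y₀ := Over.homMk e'.inv (by
    change e'.inv ≫ Y₀.hom = _
    rw [← Over.w j₀, Scheme.Hom.isoOpensRange_inv_comp_assoc]
    rfl)
  refine ⟨j₀.left.opensRange, c' ≫ c, ⟨y₀, ?_⟩, ?_⟩
  · apply (AlgSp.Points.schemeHomeo Y).injective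
    refine (AlgSp.Points.map_yon_map_apply j₀ y₀).symm.trans ?_
    rw [hj₀, AlgSp.Points.map_comp]
    refine (congrArg (AlgSp.Points.map ε.inv) (((AlgSp.Points.ofPt_eq_map_ofScheme j y₀).symm.trans hy₀))).trans ?_
    rw [← AlgSp.Points.map_comp, ε.hom_inv_id, AlgSp.Points.map_id]
    rfl
  · have e2 : c' ≫ j₀ = (Over.homMk j₀.left.opensRange.ι rfl : Over.mk (j₀.left.opensRange.ι ≫ Y.hom) ⟶ Y) :=
      Over.OverMorphism.ext (Scheme.Hom.isoOpensRange_inv_comp _)
    rw [Functor.map_comp, Category.assoc, ← hc, ← e2, Functor.map_comp, hj₀]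
    simp

/-- The normalization of a space in an affine scheme whose pullbacks to the charts are split is a
scheme, locally factoring through the atlas. -/
theorem exists_scheme_of_split [QuasiSeparatedSpace ↥S] (X : Space S) (hXqs : IsQuasiSeparatedSp X.obj)
    {T : Over S} [IsAffine T.left] (f : (yon S).obj T ⟶ X.obj) {U : Over S} (b : (yon S).obj U ⟶ X.obj)
    (hb : RepWith @Etale b) (hbs : RepWith @Surjective b)
    (hsplit : ∀ O : U.left.Opens, IsAffineOpen O → ∀ (D : Over S) (dT : D ⟶ T) (d : D ⟶ Over.mk (O.ι ≫ U.hom)),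
      IsPullback ((yon S).map dT) ((yon S).map d) f
        ((yon S).map (Over.homMk O.ι rfl : Over.mk (O.ι ≫ U.hom) ⟶ U) ≫ b) →
      D.left.IsSeparated → CompactSpace ↥D.left → Etale dT.left →
      ∀ z : ↥D.left, ∃ N : D.left.Opens, IsClosed (N : Set ↥D.left) ∧ z ∈ N ∧ Mono (N.ι ≫ dT.left)) :
    ∃ (Y : Over S) (g : (yon S).obj Y ⟶ X.obj) (f' : (yon S).obj T ⟶ (yon S).obj Y),
      Groth.Agent.AlgSp.IsSmoothNorm f g f' ∧ RepWith @IsIntegralHom g ∧
      ∀ y : ↥Y.left, ∃ (W : Y.left.Opens) (c : Over.mk (W.ι ≫ Y.hom) ⟶ U), y ∈ W ∧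
        (yon S).map c ≫ b = (yon S).map (Over.homMk W.ι rfl : Over.mk (W.ι ≫ Y.hom) ⟶ Y) ≫ g := by
  have : CompactSpace ↥T.left := inferInstance
  exact exists_scheme_of_split_of_qc X f (Groth.Agent.AlgSp.isQuasiCompactMor_of_quasiCompactSp
    (IsAlgSpace.yon_obj T) X.property f (Groth.Agent.AlgSp.isQuasiCompactSp_yon T) hXqs) b hb hbs hsplit

end Groth.Agent.SchCover
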