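import Groth.Agent.S2156
import Groth.Agent.GrpdLib.SepDense
import Groth.Agent.SchPoints.Basic
import Groth.Agent.StFib.RatLift.SmoothBase
import Groth.Agent.S0679
import Groth.Agent.Hens.Local
import Groth.Agent.SecComp.Basic

/-!
# Sections through the components of a geometrically reduced closed fibre
-/

universe u

open CategoryTheory CategoryTheory.Limits AlgebraicGeometry IsLocalRing Topology

set_option backward.isDefEq.respectTransparency false

namespace Groth.Agent.SchCover

open Groth.Agent

theorem isSepClosed_residueField_closedPoint (A : Type u) [CommRing A] [IsLocalRing A]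
    [IsSepClosed (ResidueField A)] :
    IsSepClosed ((Spec (CommRingCat.of A)).residueField (closedPoint A)) := by
  let e₁ : ResidueField A ≃+* (maximalIdeal A).ResidueField :=
    RingEquiv.ofBijective (algebraMap (A ⧸ maximalIdeal A) (maximalIdeal A).ResidueField)
      (Ideal.bijective_algebraMap_quotient_residueField _)
  exact S0679.isSepClosed_of_ringEquiv
    (e₁.trans (Scheme.Spec.residueFieldIso (CommRingCat.of A) (closedPoint A)).commRingCatIsoToRingEquiv.symm)

/-- Every component of a geometrically reduced closed fibre of a flat finitely presented scheme over a strictly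
henselian local ring is met by a section. -/
theorem exists_section_component {A : Type u} [CommRing A] [IsLocalRing A] [HenselianLocalRing A]
    [IsSepClosed (ResidueField A)] {W : Scheme.{u}} (f : W ⟶ Spec (CommRingCat.of A)) [Flat f]
    [LocallyOfFinitePresentation f] [QuasiCompact f]
    [GeometricallyReduced (f.fiberToSpecResidueField (closedPoint A))] (x : W) (hx : f x = closedPoint A) :
    ∃ σ : Spec (CommRingCat.of A) ⟶ W, σ ≫ f = 𝟙 _ ∧
      connectedComponentIn (f ⁻¹' {closedPoint A}) (σ (closedPoint A)) =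
        connectedComponentIn (f ⁻¹' {closedPoint A}) x := by
  let c : ↥(Spec (CommRingCat.of A)) := closedPoint A
  let k : Type u := (Spec (CommRingCat.of A)).residueField c
  have : IsSepClosed k := isSepClosed_residueField_closedPoint A
  let fib : f.fiber c ⟶ Spec (CommRingCat.of k) := f.fiberToSpecResidueField c
  have : GeometricallyReduced fib := ‹_›
  have : LocallyOfFinitePresentation fib :=
    MorphismProperty.of_isPullback (IsPullback.of_hasPullback f _) ‹LocallyOfFinitePresentation f›
  have : QuasiCompact fib := MorphismProperty.of_isPullback (IsPullback.of_hasPullback f _) ‹QuasiCompact f›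
  have : CompactSpace ↥(f.fiber c) := QuasiCompact.compactSpace_of_compactSpace fib
  have : IsLocallyNoetherian (f.fiber c) := LocallyOfFiniteType.isLocallyNoetherian fib
  have : IsNoetherian (f.fiber c) := {}
  obtain ⟨w, hw⟩ : x ∈ Set.range (f.fiberι c) := (f.range_fiberι c).ge hx
  have hC : IsOpen (connectedComponent w) := SchPoints.isOpen_connectedComponent_of_noetherian w
  -- a rational point of the component in the smooth locus
  obtain ⟨y, hyC, hy⟩ : ∃ y ∈ connectedComponent w, y ∈ fib.smoothLocus := by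
    let g : Spec (CommRingCat.of (AlgebraicClosure k)) ⟶ Spec (CommRingCat.of k) :=
      Spec.map (CommRingCat.ofHom (algebraMap k (AlgebraicClosure k)))
    have : Surjective g := ⟨fun x => ⟨closedPoint _, Subsingleton.elim (α := PrimeSpectrum k) _ _⟩⟩
    obtain ⟨y₀, hy₀⟩ := (pullback.fst fib g).surjective w
    obtain ⟨y, hyU, hy⟩ := (pullback.snd fib g).dense_smoothLocus_of_perfectField.inter_open_nonempty
      ((pullback.fst fib g) ⁻¹' connectedComponent w) (hC.preimage (pullback.fst fib g).continuous)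
      ⟨y₀, show pullback.fst fib g y₀ ∈ connectedComponent w from hy₀.symm ▸ mem_connectedComponent⟩
    exact ⟨_, hyU, (GrpdLib.FieldSmooth.smAt_iff _ _).1 ((GrpdLib.FieldSmooth.smAt_iff_of_isPullback
      (IsPullback.of_hasPullback fib g) y).mp ((GrpdLib.FieldSmooth.smAt_iff _ y).mpr hy))⟩
  obtain ⟨P, ⟨hPC, hP⟩, hPrat⟩ := (GrpdLib.SepDense.dense_ratPoints fib).inter_open_nonempty
    (connectedComponent w ∩ fib.smoothLocus) (hC.inter fib.smoothLocus.2) ⟨y, hyC, hy⟩
  obtain ⟨ρ, hρ, hρP⟩ := hPrat
  let x₀ : W := f.fiberι c P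
  have hx₀ : f x₀ = c := (f.range_fiberι c).le ⟨P, rfl⟩
  have hU : x₀ ∈ f.smoothLocus := by
    have key : ∀ (x' : W) (c' : ↥(Spec (CommRingCat.of A))) (_ : f x' = c') (P' : ↥(f.fiber c'))
        (_ : LocallyOfFinitePresentation (f.fiberToSpecResidueField c')),
        f.fiberι c' P' = x' → P' ∈ (f.fiberToSpecResidueField c').smoothLocus → x' ∈ f.smoothLocus := by
      intro x' c' hc' P' hlfp hι hP'
      subst hc'
      refine (S2156.result f _).2 ⟨Flat.stalkMap f _, ?_⟩
      have e : f.asFiber x' = P' :=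
        (f.fiberι (f x')).isEmbedding.injective ((f.fiberι_asFiber x').trans hι.symm)
      exact e.symm ▸ hP'
    exact key x₀ c hx₀ P inferInstance rfl hP
  -- lift the point
  let U : W.Opens := f.smoothLocus
  have : Smooth (U.ι ≫ f) := by
    rw [← Scheme.Hom.smoothLocus_eq_top_iff, ← Scheme.Hom.preimage_smoothLocus_eq]
    exact Scheme.Opens.ι_preimage_self _
  let e₁ : CommRingCat.of (ResidueField A) ⟶ CommRingCat.of (maximalIdeal A).ResidueField :=
    CommRingCat.ofHom (algebraMap (A ⧸ maximalIdeal A) (maximalIdeal A).ResidueField)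
  have : IsIso e₁ := (ConcreteCategory.isIso_iff_bijective e₁).2 (Ideal.bijective_algebraMap_quotient_residueField _)
  let j : Spec (CommRingCat.of (A ⧸ maximalIdeal A)) ⟶ Spec ((Spec (CommRingCat.of A)).residueField c) :=
    Spec.map ((Scheme.Spec.residueFieldIso (CommRingCat.of A) c).hom ≫ inv e₁)
  have hj : j ≫ (Spec (CommRingCat.of A)).fromSpecResidueField c =
      Spec.map (CommRingCat.ofHom (Ideal.Quotient.mk (maximalIdeal A))) := by
    simp only [j, Spec.map_comp, Category.assoc]
    rw [← Scheme.Spec.map_residueFieldIso_inv_eq_fromSpecResidueField, ← Category.assoc (Spec.map (Scheme.Spec.residueFieldIso _ c).hom),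
      ← Spec.map_comp (Scheme.Spec.residueFieldIso _ c).inv, Iso.inv_hom_id, Spec.map_id, Category.id_comp,
      ← Spec.map_comp]
    congr 1
    rw [IsIso.comp_inv_eq]
    rfl
  let u₀ : Spec (CommRingCat.of (A ⧸ maximalIdeal A)) ⟶ W := j ≫ ρ ≫ f.fiberι c
  have hu₀ : u₀ ≫ f = Spec.map (CommRingCat.ofHom (Ideal.Quotient.mk (maximalIdeal A))) := by
    rw [← hj]
    simp only [u₀, Category.assoc]
    congr 1
    have : f.fiberι c ≫ f = fib ≫ (Spec (CommRingCat.of A)).fromSpecResidueField c := pullback.condition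
    rw [this, ← Category.assoc, hρ]
    exact Category.id_comp _
  have hu₀x : ∀ t, u₀ t = x₀ := fun t => by
    change f.fiberι c (ρ (j t)) = x₀
    rw [Subsingleton.elim (α := PrimeSpectrum k) (j t) (closedPoint k), hρP]
  let v₀ := IsOpenImmersion.lift U.ι u₀ (by
    rintro _ ⟨t, rfl⟩
    rw [Scheme.Opens.range_ι, hu₀x]
    exact hU)
  obtain ⟨σ, hσ, hσ₀⟩ := StFib.RatLift.exists_section_extending (U.ι ≫ f) (maximalIdeal A)
    (maximalIdeal.isMaximal A).ne_top v₀ (by rw [IsOpenImmersion.lift_fac_assoc]; exact hu₀)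
  refine ⟨σ ≫ U.ι, by rw [Category.assoc, hσ], ?_⟩
  have hσx : (σ ≫ U.ι) c = x₀ := by
    obtain ⟨t⟩ : Nonempty ↥(Spec (CommRingCat.of (A ⧸ maximalIdeal A))) :=
      inferInstanceAs (Nonempty (PrimeSpectrum (A ⧸ maximalIdeal A)))
    rw [← hu₀x t, show u₀ = (Spec.map (CommRingCat.ofHom (Ideal.Quotient.mk (maximalIdeal A))) ≫ σ) ≫ U.ι by
      rw [hσ₀, IsOpenImmersion.lift_fac]]
    rw [Category.assoc]
    change _ = (σ ≫ U.ι) (Spec.map _ t)
    congr 1
    refine (PrimeSpectrum.ext ?_).symm
    change t.asIdeal.comap (Ideal.Quotient.mk (maximalIdeal A)) = maximalIdeal A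
    exact le_antisymm (IsLocalRing.le_maximalIdeal (Ideal.comap_ne_top _ t.isPrime.ne_top))
      fun a ha => by simp [Ideal.mem_comap, Ideal.Quotient.eq_zero_iff_mem.2 ha]
  rw [hσx, ← hw, SecComp.connectedComponentIn_fibre, SecComp.connectedComponentIn_fibre,
    connectedComponent_eq hPC]

/-- Algebra maps from a finitely presented algebra to `EtLoc R K` come from an étale stage. -/
theorem exists_stage_algHom {R : Type u} [CommRing R] {K : Type u} [Field K] [Algebra R K] {E : Type u} [CommRing E]
    [Algebra R E] [Algebra.FinitePresentation R E] {m : ℕ} (φ : Fin m → E →ₐ[R] Hens.EtLoc R K) :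
    ∃ (B : Type u) (_ : CommRing B) (_ : Algebra R B), Algebra.Etale R B ∧
      ∃ (θ : B →ₐ[R] Hens.EtLoc R K) (φ' : Fin m → E →ₐ[R] B), ∀ j, θ.comp (φ' j) = φ j := by
  classical
  obtain ⟨n, π, hπ, hker⟩ := ‹Algebra.FinitePresentation R E›.out
  obtain ⟨r, F, hF⟩ := Submodule.fg_iff_exists_fin_generating_family.1 hker
  obtain ⟨B, _, _, hB, θ, hθ⟩ := Hens.exists_stage_finset
    (Finset.univ.image fun p : Fin m × Fin n => φ p.1 (π (MvPolynomial.X p.2)))
  choose b hb using fun p : Fin m × Fin n => hθ _ (Finset.mem_image.2 ⟨p, Finset.mem_univ _, rfl⟩)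
  let ev : Fin m → MvPolynomial (Fin n) R →ₐ[R] B := fun j => MvPolynomial.aeval fun i => b (j, i)
  have hev : ∀ j, θ.comp (ev j) = (φ j).comp π := fun j => MvPolynomial.algHom_ext fun i => by
    rw [AlgHom.comp_apply, AlgHom.comp_apply, MvPolynomial.aeval_X]
    exact hb (j, i)
  choose s hs hzero using fun p : Fin m × Fin r => Hens.exists_mul_eq_zero_of_map_eq_zero θ
    (a := ev p.1 (F p.2)) (by
      rw [← AlgHom.comp_apply θ (ev p.1), hev, AlgHom.comp_apply, show π (F p.2) = 0 from
        hF.le (Submodule.subset_span (Set.mem_range_self p.2)), map_zero])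
  let t : B := ∏ p, s p
  have ht : Hens.point R K (θ t) ≠ 0 := by
    simp only [t, map_prod]
    exact Finset.prod_ne_zero_iff.2 fun p _ => hs p
  have hu : IsUnit (θ t) := isUnit_of_map_unit (Hens.point R K).toRingHom _ (IsUnit.mk0 _ ht)
  let B' := Localization.Away t
  have : Algebra.Etale B B' := Algebra.Etale.of_isLocalizationAway t
  have : Algebra.Etale R B' := Algebra.Etale.comp R B B'
  let ι : B →ₐ[R] B' := IsScalarTower.toAlgHom R B B'
  have hk : ∀ j, ∀ x ∈ RingHom.ker π.toRingHom, (ι.comp (ev j)) x = 0 := fun j x hx => by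
    refine (Submodule.span_le (p := RingHom.ker (ι.comp (ev j)).toRingHom)).2 ?_ (hF.ge hx)
    rintro _ ⟨i, rfl⟩
    change ι (ev j (F i)) = 0
    have hsu : IsUnit (ι (s (j, i))) := isUnit_of_dvd_unit (map_dvd ι (Finset.dvd_prod_of_mem s (Finset.mem_univ _)))
      (IsLocalization.Away.algebraMap_isUnit (S := B') t)
    have := congrArg ι (hzero (j, i))
    rw [map_mul, map_zero] at this
    exact hsu.mul_right_eq_zero.1 this
  refine ⟨B', _, _, inferInstance, Hens.awayExt θ t hu,
    fun j => AlgHom.liftOfSurjective π hπ (ι.comp (ev j)) (hk j), fun j => ?_⟩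
  refine AlgHom.ext fun e => ?_
  obtain ⟨x, rfl⟩ := hπ e
  rw [AlgHom.comp_apply, AlgHom.liftOfSurjective_apply]
  exact (Hens.awayExt_algebraMap θ t hu (ev j x)).trans (DFunLike.congr_fun (hev j) x)

end Groth.Agent.SchCover
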