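import Groth.Agent.SchCover.ConnSemicont
import Groth.Agent.SchCover.SmoothSection
import Groth.Agent.SecComp.FlatNbhd
import Groth.Agent.AlgSpEN.GeomRedFibre
import Groth.Agent.ProperConn.Basic

/-!
# Upper semicontinuity of geometric connected components with geometrically reduced fibres
-/

universe u

open CategoryTheory CategoryTheory.Limits AlgebraicGeometry Topology IsLocalRing TensorProduct

set_option backward.isDefEq.respectTransparency false

namespace Groth.Agent.SchCover

open Groth.Agent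

/-! ### Topology -/

/-- Comparing the numbers of components of two spaces covered by corresponding families. -/
theorem card_components_le {α β : Type u} [TopologicalSpace α] [TopologicalSpace β] {ι : Type*}
    (I : ι → Set α) (J : ι → Set β) (hIo : ∀ i, IsOpen (I i)) (hI : ∀ x, ∃ i, x ∈ I i) (hIne : ∀ i, (I i).Nonempty)
    (hJ : ∀ y, ∃ i, y ∈ J i) (hJc : ∀ i, _root_.IsPreconnected (J i))
    (hmeet : ∀ i j, (I i ∩ I j).Nonempty → (J i ∩ J j).Nonempty) :
    ENat.card (_root_.ConnectedComponents β) ≤ ENat.card (_root_.ConnectedComponents α) := by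
  classical
  have hJne : ∀ i, (J i).Nonempty := fun i => by
    obtain ⟨z, hz, -⟩ := hmeet i i (by rw [Set.inter_self]; exact hIne i)
    exact ⟨z, hz⟩
  choose y hy using hJne
  choose i hi using hI
  let c : ι → _root_.ConnectedComponents β := fun k => _root_.ConnectedComponents.mk (y k)
  have hmem : ∀ k, ∀ z ∈ J k, _root_.ConnectedComponents.mk z = c k := fun k z hz =>
    _root_.ConnectedComponents.coe_eq_coe'.2 ((hJc k).subset_connectedComponent (hy k) hz)
  have hwd : ∀ k l, (I k ∩ I l).Nonempty → c k = c l := fun k l hkl => by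
    obtain ⟨z, hz1, hz2⟩ := hmeet k l hkl
    rw [← hmem k z hz1, ← hmem l z hz2]
  have hlc : IsLocallyConstant fun x => c (i x) := (IsLocallyConstant.iff_exists_open _).2 fun x =>
    ⟨I (i x), hIo _, hi x, fun x' hx' => hwd _ _ ⟨x', hi x', hx'⟩⟩
  let F : _root_.ConnectedComponents α → _root_.ConnectedComponents β :=
    Quotient.lift (fun x => c (i x)) fun a b (hab : connectedComponent a = connectedComponent b) =>
      hlc.apply_eq_of_isPreconnected isPreconnected_connectedComponent mem_connectedComponent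
        (hab ▸ mem_connectedComponent)
  refine ProperConn.card_le_of_surjective (f := F) fun d => ?_
  obtain ⟨z, rfl⟩ := _root_.ConnectedComponents.surjective_coe d
  obtain ⟨k, hk⟩ := hJ z
  obtain ⟨x, hx⟩ := hIne k
  refine ⟨_root_.ConnectedComponents.mk x, ?_⟩
  change c (i x) = _
  rw [hwd _ k ⟨x, hi x, hx⟩, hmem k z hk]

/-! ### Geometric fibres in a chart -/

variable {S : Scheme.{u}}

/-- Charts of geometrically reduced fibres are geometrically reduced. -/
theorem geometricallyReduced_pres_fibre {X Y : _root_.AlgSp.Space S} (f : X ⟶ Y) {R : Type u} [CommRing R]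
    {h : Spec (CommRingCat.of R) ⟶ S} {XR : _root_.AlgSp.Sp S}
    {gR : XR ⟶ (_root_.AlgSp.yon S).obj (Over.mk h)} {u : XR ⟶ X.obj}
    {b : (_root_.AlgSp.yon S).obj (Over.mk h) ⟶ Y.obj} (sq : IsPullback u gR f.hom b)
    {E F : Type u} [CommRing E] [Algebra R E] [CommRing F] [Algebra R F] (P : AlgSp.Pres h gR E F)
    (t : PrimeSpectrum R) (H : AlgSpEN.GeomRedFibre.FibGeomRed f (_root_.AlgSp.Points.ofPt b t)) :
    GeometricallyReduced ((Spec.map (CommRingCat.ofHom (algebraMap R E))).fiberToSpecResidueField t) := by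
  let m : (_root_.AlgSp.yon S).obj (AlgSp.specOver h E) ⟶ pullback f.hom b := P.a ≫ sq.isoPullback.hom
  have hm : _root_.AlgSp.RepWith @Etale m :=
    (MorphismProperty.cancel_right_of_respectsIso (_root_.AlgSp.RepWith @Etale) _ _).2 P.ha
  have hh : (_root_.AlgSp.yon S).map (AlgSp.specStr h E) = m ≫ pullback.snd f.hom b := by
    rw [Category.assoc, IsPullback.isoPullback_hom_snd, P.hga]
  refine ⟨geometrically_iff_of_commRing_of_isClosedUnderIsomorphisms.mpr fun L _ hL => ?_⟩
  letI : Algebra (IsLocalRing.ResidueField ((Over.mk h).left.presheaf.stalk t)) L := hL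
  exact AlgSpEN.GeomRedFibre.isReduced_bc_of_fibGeomRed f b m hm (AlgSp.specStr h E) hh t H L

variable {B : Type u} [CommRing B] {hB : Spec (CommRingCat.of B) ⟶ S} {XB : _root_.AlgSp.Sp S}
  {gB : XB ⟶ (_root_.AlgSp.yon S).obj (Over.mk hB)}
  {E F : Type u} [CommRing E] [Algebra B E] [CommRing F] [Algebra B F] (PB : AlgSp.Pres hB gB E F)
  {K : Type u} [Field K] [Algebra B K] {Q : _root_.AlgSp.Sp S} {π : Q ⟶ XB}
  {v : Q ⟶ (_root_.AlgSp.yon S).obj (AlgSp.specOver hB K)}

theorem exists_geomFibre_chart (sq : IsPullback π v gB ((_root_.AlgSp.yon S).map (AlgSp.specStr hB K))) :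
    ∃ pq : PrimeSpectrum (K ⊗[B] E) → _root_.AlgSp.Points Q, Continuous pq ∧ IsOpenMap pq ∧ Function.Surjective pq ∧
      (∀ z, _root_.AlgSp.Points.map π (pq z) =
        presPt PB (PrimeSpectrum.comap (Algebra.TensorProduct.includeRight : E →ₐ[B] K ⊗[B] E).toRingHom z)) ∧
      ∀ x w, _root_.AlgSp.Points.map π x = presPt PB w →
        ∃ z, pq z = x ∧ PrimeSpectrum.comap (Algebra.TensorProduct.includeRight : E →ₐ[B] K ⊗[B] E).toRingHom z = w := by
  obtain ⟨PQ, -, -, hab⟩ := PB.exists_baseChange K sq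
  have sA : IsPullback ((_root_.AlgSp.yon S).map (AlgSp.specFst hB K E)) PQ.a PB.a π := by
    refine IsPullback.of_bot ?_ hab.symm sq
    rw [PQ.hga, PB.hga]
    exact (AlgSp.isPullback_specFst hB K E).map (_root_.AlgSp.yon S)
  refine ⟨presPt PQ, _root_.AlgSp.Points.continuous_ofPt PQ.a, AlgSpB.isOpenMap_ofPt PQ.ha, PQ.hs, fun z => ?_,
    fun x w hxw => ?_⟩
  · rw [presPt, _root_.AlgSp.Points.map_ofPt, hab, AlgSpB.ofPt_map_comp]
    rfl
  · obtain ⟨p, hp1, hp2⟩ := AlgSpB.exists_of_isPullback sA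
      (_root_.AlgSp.Points.ofScheme (AlgSp.specOver hB E) w) x
      (by rw [← _root_.AlgSp.Points.ofPt_eq_map_ofScheme]; exact hxw.symm)
    obtain ⟨z, rfl⟩ := (_root_.AlgSp.Points.schemeHomeo _).surjective p
    rw [_root_.AlgSp.Points.map_yon_map_apply] at hp1
    exact ⟨z, (_root_.AlgSp.Points.ofPt_eq_map_ofScheme PQ.a z).trans hp2,
      (_root_.AlgSp.Points.schemeHomeo _).injective hp1⟩

theorem geomFibre_points {t : PrimeSpectrum B} (hK : ∀ k : PrimeSpectrum K, PrimeSpectrum.comap (algebraMap B K) k = t)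
    (sq : IsPullback π v gB ((_root_.AlgSp.yon S).map (AlgSp.specStr hB K))) :
    (∀ x, _root_.AlgSp.Points.toScheme (Over.mk hB) (_root_.AlgSp.Points.map gB (_root_.AlgSp.Points.map π x)) = t) ∧
      ∀ xB, _root_.AlgSp.Points.toScheme (Over.mk hB) (_root_.AlgSp.Points.map gB xB) = t →
        ∃ x, _root_.AlgSp.Points.map π x = xB := by
  refine ⟨fun x => ?_, fun xB hxB => ?_⟩
  · obtain ⟨k, hk⟩ := (_root_.AlgSp.Points.schemeHomeo (AlgSp.specOver hB K)).surjective (_root_.AlgSp.Points.map v x)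
    rw [← _root_.AlgSp.Points.map_comp, sq.w, _root_.AlgSp.Points.map_comp, ← hk,
      _root_.AlgSp.Points.map_yon_map_apply]
    exact (_root_.AlgSp.Points.toScheme_ofScheme _ _).trans (hK k)
  · let k : ↥(AlgSp.specOver hB K).left := (⟨⊥, Ideal.isPrime_bot⟩ : PrimeSpectrum K)
    obtain ⟨z, hz, -⟩ := AlgSpB.exists_of_isPullback sq xB (_root_.AlgSp.Points.schemeHomeo _ k) (by
      rw [_root_.AlgSp.Points.map_yon_map_apply, ← _root_.AlgSp.Points.ofScheme_toScheme (Over.mk hB)
        (_root_.AlgSp.Points.map gB xB), hxB]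
      exact congrArg _ (hK k).symm)
    exact ⟨z, hz⟩

/-- The preimage in a geometric fibre of the components along a section is connected. -/
theorem isPreconnected_preimage_sectionComponents (φ : E →ₐ[B] B) :
    _root_.IsPreconnected ((Spec.map (CommRingCat.ofHom (Algebra.TensorProduct.includeRight : E →ₐ[B] K ⊗[B] E).toRingHom)) ⁻¹'
      MoreMor.sectionComponents (Spec.map (CommRingCat.ofHom (algebraMap B E))) (Spec.map (CommRingCat.ofHom φ.toRingHom))) := by
  let s : Spec (CommRingCat.of B) ⟶ Spec (CommRingCat.of E) := Spec.map (CommRingCat.ofHom φ.toRingHom)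
  let fE := Spec.map (CommRingCat.ofHom (algebraMap B E))
  let m := Spec.map (CommRingCat.ofHom (algebraMap B K))
  let pr := Spec.map (CommRingCat.ofHom (Algebra.TensorProduct.includeRight : E →ₐ[B] K ⊗[B] E).toRingHom)
  let fK := Spec.map (CommRingCat.ofHom (Algebra.TensorProduct.includeLeftRingHom : K →+* K ⊗[B] E))
  have hs : s ≫ fE = 𝟙 _ := by
    rw [← Spec.map_comp, ← Spec.map_id]
    congr 1
    exact CommRingCat.hom_ext (RingHom.ext fun b => φ.commutes b)
  have hc : IsPullback pr fK fE m := (AlgSp.isPullback_tensor B K E).flip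
  let s' := hc.lift (m ≫ s) (𝟙 _) (by rw [Category.assoc, hs, Category.comp_id, Category.id_comp])
  rw [← SecComp.preimage_sectionComponents fE s hs fK pr m hc s' (hc.lift_snd _ _ _) (hc.lift_fst _ _ _)]
  let o : ↥(Spec (CommRingCat.of K)) := closedPoint K
  have : MoreMor.sectionComponents fK s' = connectedComponentIn (fK ⁻¹' {o}) (s' o) := by
    ext z
    change z ∈ connectedComponentIn (fK ⁻¹' {fK z}) (s' (fK z)) ↔ _
    rw [Subsingleton.elim (α := PrimeSpectrum K) (fK z) o]
  rw [this]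
  exact isPreconnected_connectedComponentIn

/-- The geometric fibres with at most as many components as a given one contain a neighbourhood. -/
theorem exists_open_chart_le {X Y : _root_.AlgSp.Space S} (f : X ⟶ Y) (hf1 : _root_.AlgSp.IsProperMor f.hom)
    (hf2 : _root_.AlgSp.LocP @Flat f.hom) (hf3 : _root_.AlgSp.IsFinitePresentationMor f.hom)
    (hred : ∀ y, AlgSpEN.GeomRedFibre.FibGeomRed f y)
    {R : Type u} [CommRing R] (h : Spec (CommRingCat.of R) ⟶ S) (a : (_root_.AlgSp.yon S).obj (Over.mk h) ⟶ Y.obj)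
    (ha : _root_.AlgSp.RepWith @Etale a) (r₀ : PrimeSpectrum R) (n : ℕ∞)
    (hn : ∀ (Xk : _root_.AlgSp.Sp S) (u : Xk ⟶ X.obj) (v : Xk ⟶ (_root_.AlgSp.yon S).obj (chartPt a r₀).pt),
      IsPullback u v f.hom (chartPt a r₀).toHom → ENat.card (_root_.ConnectedComponents (_root_.AlgSp.Points Xk)) ≤ n) :
    ∃ O : Set (_root_.AlgSp.Points Y.obj), IsOpen O ∧ _root_.AlgSp.Points.ofPt a r₀ ∈ O ∧
      ∀ y ∈ O, ∀ k : _root_.AlgSp.FieldPt Y.obj, _root_.AlgSp.Points.mk k = y → k.IsGeometric →
        ∀ (Xk : _root_.AlgSp.Sp S) (u : Xk ⟶ X.obj) (v : Xk ⟶ (_root_.AlgSp.yon S).obj k.pt),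
          IsPullback u v f.hom k.toHom → ENat.card (_root_.ConnectedComponents (_root_.AlgSp.Points Xk)) ≤ n := by
  classical
  let K : Type u := AlgebraicClosure r₀.asIdeal.ResidueField
  let XR := pullback f.hom a
  let gR : XR ⟶ (_root_.AlgSp.yon S).obj (Over.mk h) := pullback.snd f.hom a
  have sR : IsPullback (pullback.fst f.hom a) gR f.hom a := IsPullback.of_hasPullback _ _
  have hXR : _root_.AlgSp.IsAlgSpace XR :=
    AlgSp.isAlgSpace_pullback Y.property X.property (_root_.AlgSp.IsAlgSpace.yon_obj _) f.hom a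
  have hpR : _root_.AlgSp.IsProperMor gR := AlgSpD.isProperMor_baseChange X.property Y.property sR hf1
  have hflR : _root_.AlgSp.LocP @Flat gR :=
    AlgSpCov.locP_baseChange AlgSpCov.etaleLocal_flat X.property Y.property sR hf2
  have hfpR : _root_.AlgSp.LocP @LocallyOfFinitePresentation gR :=
    AlgSpCov.locP_baseChange AlgSpCov.etaleLocal_locallyOfFinitePresentation X.property Y.property sR hf3.1
  obtain ⟨E, F, _, _, ⟨P⟩⟩ := AlgSp.exists_pres (h := h) hXR hpR.2.1.2 (AlgSp.isQuasiSeparatedMor_of_sep hpR.1)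
  have : Algebra.FinitePresentation R E := RingHom.finitePresentation_algebraMap.1
    ((HasRingHomProperty.Spec_iff (P := @LocallyOfFinitePresentation)).1
      (show LocallyOfFinitePresentation (Spec.map (CommRingCat.ofHom (algebraMap R E))) from
        hfpR P.a (𝟙 _) (AlgSp.specStr h E) P.ha (_root_.AlgSp.repWith_id @Etale _) (by rw [P.hga, Category.comp_id])))
  have : Module.Flat R E := RingHom.flat_algebraMap_iff.1
    ((HasRingHomProperty.Spec_iff (P := @Flat)).1 (show Flat (Spec.map (CommRingCat.ofHom (algebraMap R E))) from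
      hflR P.a (𝟙 _) (AlgSp.specStr h E) P.ha (_root_.AlgSp.repWith_id @Etale _) (by rw [P.hga, Category.comp_id])))
  have hchart : ∀ (C : Type u) [CommRing C] [Algebra R C] (t : PrimeSpectrum C),
      GeometricallyReduced ((Spec.map (CommRingCat.ofHom (algebraMap C (C ⊗[R] E)))).fiberToSpecResidueField t) := by
    intro C _ _ t
    have sC := IsPullback.of_hasPullback gR ((_root_.AlgSp.yon S).map (AlgSp.specStr h C))
    obtain ⟨PC, -, -, -⟩ := P.exists_baseChange C sC
    exact geometricallyReduced_pres_fibre f (sC.paste_horiz sR) PC t (hred _)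
  have hflat : ∀ (C : Type u) [CommRing C] [Algebra R C],
      Flat (Spec.map (CommRingCat.ofHom (algebraMap C (C ⊗[R] E)))) := fun C _ _ =>
    (HasRingHomProperty.Spec_iff (P := @Flat)).2 (RingHom.flat_algebraMap_iff.2 inferInstance)
  have hlfp : ∀ (C : Type u) [CommRing C] [Algebra R C],
      LocallyOfFinitePresentation (Spec.map (CommRingCat.ofHom (algebraMap C (C ⊗[R] E)))) := fun C _ _ =>
    (HasRingHomProperty.Spec_iff (P := @LocallyOfFinitePresentation)).2
      (RingHom.finitePresentation_algebraMap.2 inferInstance)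
  -- the strictly henselian base change
  let A : Type u := Hens.EtLoc R K
  haveI : IsSepClosed (ResidueField A) := isSepClosed_residueField_etLoc
  let fA := Spec.map (CommRingCat.ofHom (algebraMap A (A ⊗[R] E)))
  let cA : ↥(Spec (CommRingCat.of A)) := closedPoint A
  have := hflat A
  have := hlfp A
  have := hchart A (closedPoint A)
  have : GeometricallyReduced (fA.fiberToSpecResidueField cA) := this
  -- finitely many sections through the components
  have hcomp : Finite (_root_.ConnectedComponents ↥(fA ⁻¹' {cA})) := by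
    let fib := fA.fiberToSpecResidueField cA
    have : LocallyOfFinitePresentation fib :=
      MorphismProperty.of_isPullback (IsPullback.of_hasPullback fA _) ‹LocallyOfFinitePresentation fA›
    have : QuasiCompact fib := MorphismProperty.of_isPullback (IsPullback.of_hasPullback fA _)
      (inferInstanceAs (QuasiCompact fA))
    have : CompactSpace ↥(fA.fiber cA) := QuasiCompact.compactSpace_of_compactSpace fib
    have : IsLocallyNoetherian (fA.fiber cA) := LocallyOfFiniteType.isLocallyNoetherian fib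
    have : IsNoetherian (fA.fiber cA) := {}
    have : Finite (_root_.ConnectedComponents ↥(fA.fiber cA)) :=
      ProperConn.finite_connectedComponents SchPoints.isOpen_connectedComponent_of_noetherian
    refine Finite.of_surjective (fA.fiberHomeo cA).continuous.connectedComponentsMap fun c => ?_
    obtain ⟨z, rfl⟩ := _root_.ConnectedComponents.surjective_coe c
    obtain ⟨z', rfl⟩ := (fA.fiberHomeo cA).surjective z
    exact ⟨_, Continuous.connectedComponentsMap_mk _ z'⟩
  let m := Nat.card (_root_.ConnectedComponents ↥(fA ⁻¹' {cA}))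
  let e : Fin m ≃ _root_.ConnectedComponents ↥(fA ⁻¹' {cA}) := (Finite.equivFin _).symm
  choose z hz using fun j => _root_.ConnectedComponents.surjective_coe (e j)
  choose σ hσ hσz using fun j => exists_section_component fA (z j).1 (z j).2
  choose φA hφA using fun j => Spec.map_surjective (σ j)
  let φ : Fin m → E →ₐ[R] A := fun j =>
    { toRingHom := (φA j).hom.comp (Algebra.TensorProduct.includeRight : E →ₐ[R] A ⊗[R] E).toRingHom
      commutes' := fun r => by
        have h1 : CommRingCat.ofHom (algebraMap A (A ⊗[R] E)) ≫ φA j = 𝟙 _ := Spec.map_injective (by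
          rw [Spec.map_comp, hφA, Spec.map_id]; exact hσ j)
        have h2 := RingHom.congr_fun (congrArg CommRingCat.Hom.hom h1) (algebraMap R A r)
        change φA j ((Algebra.TensorProduct.includeRight : E →ₐ[R] A ⊗[R] E) (algebraMap R E r)) = algebraMap R A r
        rw [AlgHom.commutes, IsScalarTower.algebraMap_apply R A (A ⊗[R] E)]
        exact h2 }
  obtain ⟨B, _, _, hB, θ, φ', hφ'⟩ := exists_stage_algHom φ
  let q : PrimeSpectrum B := PrimeSpectrum.comap θ.toRingHom (closedPoint A)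
  let hB' := Spec.map (CommRingCat.ofHom (algebraMap R B)) ≫ h
  let XB := pullback gR ((_root_.AlgSp.yon S).map (AlgSp.specStr h B))
  let gB : XB ⟶ (_root_.AlgSp.yon S).obj (Over.mk hB') := pullback.snd gR _
  have sB : IsPullback (pullback.fst gR _) gB gR ((_root_.AlgSp.yon S).map (AlgSp.specStr h B)) :=
    IsPullback.of_hasPullback _ _
  have hXB : _root_.AlgSp.IsAlgSpace XB :=
    AlgSp.isAlgSpace_pullback (_root_.AlgSp.IsAlgSpace.yon_obj _) hXR (_root_.AlgSp.IsAlgSpace.yon_obj _) gR _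
  obtain ⟨PB, -, -, -⟩ := P.exists_baseChange B sB
  let fB := Spec.map (CommRingCat.ofHom (algebraMap B (B ⊗[R] E)))
  have := hflat B
  have := hlfp B
  have hredB : GeometricallyReduced (fB.fiberToSpecResidueField q) := hchart B q
  let ψ : Fin m → B ⊗[R] E →ₐ[B] B := fun j =>
    Algebra.TensorProduct.lift (AlgHom.id B B) (φ' j) fun _ _ => Commute.all _ _
  let s : Fin m → (Spec (CommRingCat.of B) ⟶ Spec (CommRingCat.of (B ⊗[R] E))) := fun j =>
    Spec.map (CommRingCat.ofHom (ψ j).toRingHom)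
  have hs : ∀ j, s j ≫ fB = 𝟙 _ := fun j => by
    rw [← Spec.map_comp, ← Spec.map_id]
    congr 1
    exact CommRingCat.hom_ext (RingHom.ext fun b => (ψ j).commutes b)
  have hsq : ∀ (j : Fin m) (p : ↥(Spec (CommRingCat.of B))), fB (s j p) = p := fun j p => by
    rw [← Scheme.Hom.comp_apply, hs]; rfl
  let C : Fin m → Set ↥(Spec (CommRingCat.of (B ⊗[R] E))) := fun j => interior (MoreMor.sectionComponents fB (s j))
  have hfib : ∀ w, fB w = q → ∃ j, w ∈ connectedComponentIn (fB ⁻¹' {q}) (s j q) := by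
    intro w hw
    let θE := Algebra.TensorProduct.map θ (AlgHom.id R E)
    let pA := Spec.map (CommRingCat.ofHom θE.toRingHom)
    have hc : IsPullback pA fA fB (Spec.map (CommRingCat.ofHom θ.toRingHom)) := by
      letI := θ.toRingHom.toAlgebra
      haveI : IsScalarTower R B A := .of_algebraMap_eq' θ.comp_algebraMap.symm
      let ec := Algebra.TensorProduct.cancelBaseChange R B B A E
      refine IsPullback.of_iso (AlgSp.isPullback_tensor B A (B ⊗[R] E)).flip
        (Scheme.Spec.mapIso ec.toRingEquiv.toCommRingCatIso.symm.op) (Iso.refl _) (Iso.refl _) (Iso.refl _) ?_ ?_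
        (by simp [fB]) (by simp [RingHom.algebraMap_toAlgebra])
      · simp only [Iso.refl_hom, Category.comp_id, Functor.mapIso_hom, Iso.op_hom]
        change Spec.map _ = Spec.map _ ≫ Spec.map _
        rw [← Spec.map_comp]
        congr 1
        refine CommRingCat.hom_ext ?_
        ext x
        · simp [ec, θE]
          rw [AlgEquiv.eq_symm_apply]
          erw [Algebra.TensorProduct.cancelBaseChange_tmul]
          rw [Algebra.smul_def, mul_one]; rfl
        · simp [ec, θE]
          rw [AlgEquiv.eq_symm_apply]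
          erw [Algebra.TensorProduct.cancelBaseChange_tmul]
          rw [one_smul]
      · simp only [Iso.refl_hom, Category.comp_id, Functor.mapIso_hom, Iso.op_hom]
        change Spec.map _ = Spec.map _ ≫ Spec.map _
        rw [← Spec.map_comp]
        congr 1
    obtain ⟨w', hw', hw'c⟩ := Scheme.exists_preimage_of_isPullback hc w cA hw
    obtain ⟨j, hj⟩ := e.surjective (_root_.ConnectedComponents.mk ⟨w', hw'c⟩)
    refine ⟨j, ?_⟩
    have h1 : w' ∈ connectedComponentIn (fA ⁻¹' {cA}) (σ j cA) := by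
      rw [hσz, connectedComponentIn_eq_image (z j).2]
      refine ⟨⟨w', hw'c⟩, _root_.ConnectedComponents.coe_eq_coe'.1 ?_, rfl⟩
      rw [hz, hj]
    have hsub : pA '' (fA ⁻¹' {cA}) ⊆ fB ⁻¹' {q} := by
      rintro _ ⟨v, hv, rfl⟩
      rw [Set.mem_preimage, Set.mem_singleton_iff, ← Scheme.Hom.comp_apply, hc.w, Scheme.Hom.comp_apply, show fA v = cA from hv]
      rfl
    have h2 : pA (σ j cA) = s j q := by
      rw [← hφA j]
      change PrimeSpectrum.comap _ (PrimeSpectrum.comap _ (closedPoint A)) =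
        PrimeSpectrum.comap _ (PrimeSpectrum.comap _ (closedPoint A))
      rw [← PrimeSpectrum.comap_comp_apply, ← PrimeSpectrum.comap_comp_apply]
      refine congrArg (fun φ => PrimeSpectrum.comap φ (closedPoint A)) ?_
      have h1 : CommRingCat.ofHom (algebraMap A (A ⊗[R] E)) ≫ φA j = 𝟙 _ := Spec.map_injective (by
        rw [Spec.map_comp, hφA, Spec.map_id]; exact hσ j)
      ext x
      · have h1' := RingHom.congr_fun (congrArg CommRingCat.Hom.hom h1) (θ x)
        change φA j (θE (x ⊗ₜ 1)) = θ (ψ j (x ⊗ₜ 1))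
        simpa [θE, ψ] using h1'
      · change φA j (θE ((1 : B) ⊗ₜ x)) = θ (ψ j ((1 : B) ⊗ₜ x))
        have h3 := DFunLike.congr_fun (hφ' j) x
        simp only [θE, ψ, Algebra.TensorProduct.map_tmul, map_one, AlgHom.id_apply, Algebra.TensorProduct.lift_tmul,
          one_mul]
        exact h3.symm
    rw [← hw', ← h2]
    exact (isPreconnected_connectedComponentIn.image pA pA.continuous.continuousOn).subset_connectedComponentIn
      ⟨σ j cA, mem_connectedComponentIn (Set.mem_preimage.2 (by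
        rw [← Scheme.Hom.comp_apply, hσ]; rfl)), rfl⟩
      ((Set.image_mono (connectedComponentIn_subset _ _)).trans hsub) ⟨w', h1, rfl⟩
  have hint : ∀ j, connectedComponentIn (fB ⁻¹' {q}) (s j q) ⊆ C j := fun j =>
    SecComp.component_subset_interior_fp fB (s j) (hs j) q fun x hx =>
      SecComp.isGeomReducedAt_of_fiber fB x (connectedComponentIn_subset (fB ⁻¹' {q}) _ hx : fB x = q)
        fun x' _ => @SecComp.isGeomReducedAt_of_geometricallyReduced _ _ _ (fB.fiberToSpecResidueField q) hredB x'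
  let O : Fin m → Set (_root_.AlgSp.Points XB) := fun j => presPt PB '' C j
  have hO : ∀ j, IsOpen (O j) := fun j => AlgSpB.isOpenMap_ofPt PB.ha _ isOpen_interior
  let γ : _root_.AlgSp.Points XB → ↥(Over.mk hB').left := fun x =>
    _root_.AlgSp.Points.toScheme (Over.mk hB') (_root_.AlgSp.Points.map gB x)
  have hγ : γ = (_root_.AlgSp.Points.schemeHomeo (Over.mk hB')).symm ∘ _root_.AlgSp.Points.map gB := rfl
  have hγw : ∀ w, γ (presPt PB w) = fB w := fun w => toScheme_map_presPt PB w
  have hopen : IsOpenMap γ := by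
    rw [hγ]
    refine (_root_.AlgSp.Points.schemeHomeo (Over.mk hB')).symm.isOpenMap.comp ?_
    exact AlgSp.isUnivOpenMor_of_flat_lfp hXB (_root_.AlgSp.IsAlgSpace.yon_obj _) gB
      (AlgSpCov.locP_baseChange AlgSpCov.etaleLocal_flat hXR (_root_.AlgSp.IsAlgSpace.yon_obj _) sB hflR)
      (AlgSpCov.locP_baseChange AlgSpCov.etaleLocal_locallyOfFinitePresentation hXR
        (_root_.AlgSp.IsAlgSpace.yon_obj _) sB hfpR)
      (_root_.AlgSp.IsAlgSpace.yon_obj _) (𝟙 _) (𝟙 _) gB IsPullback.of_id_fst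
  have hclosed : IsClosedMap γ := by
    rw [hγ]
    exact (_root_.AlgSp.Points.schemeHomeo (Over.mk hB')).symm.isClosedMap.comp
      ((AlgSpD.isProperMor_baseChange hXR (_root_.AlgSp.IsAlgSpace.yon_obj _) sB hpR).2.2
        (_root_.AlgSp.IsAlgSpace.yon_obj _) (𝟙 _) (𝟙 _) gB IsPullback.of_id_fst)
  let V₁ : Set ↥(Over.mk hB').left := (γ '' (⋃ j, O j)ᶜ)ᶜ
  have hV₁ : IsOpen V₁ := (hclosed _ (isOpen_iUnion hO).isClosed_compl).isOpen_compl
  have hqV₁ : (q : ↥(Over.mk hB').left) ∈ V₁ := by
    rintro ⟨x, hx, hxq⟩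
    obtain ⟨w, rfl⟩ : ∃ w, presPt PB w = x := PB.hs x
    obtain ⟨j, hj⟩ := hfib w ((hγw w).symm.trans hxq)
    exact hx (Set.mem_iUnion.2 ⟨j, w, hint j hj, rfl⟩)
  let V₂ : Set ↥(Over.mk hB').left :=
    ⋂ p : {p : Fin m × Fin m // (q : ↥(Over.mk hB').left) ∈ γ '' (O p.1 ∩ O p.2)}, γ '' (O p.1.1 ∩ O p.1.2)
  have hV₂ : IsOpen V₂ := isOpen_iInter_of_finite fun p => hopen _ ((hO _).inter (hO _))
  have hqV₂ : (q : ↥(Over.mk hB').left) ∈ V₂ := Set.mem_iInter.2 fun p => p.2
  let aB := (_root_.AlgSp.yon S).map (AlgSp.specStr h B) ≫ a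
  have haB : _root_.AlgSp.RepWith @Etale aB := by
    have : Etale (AlgSp.specStr h B).left :=
      show Etale (Spec.map (CommRingCat.ofHom (algebraMap R B))) from
        (HasRingHomProperty.Spec_iff (P := @Etale)).2 (RingHom.etale_algebraMap.2 hB)
    exact AlgSpB.repWith_etale_map_comp _ ha
  have hqy : _root_.AlgSp.Points.ofPt aB q = _root_.AlgSp.Points.ofPt a r₀ := by
    refine (AlgSpB.ofPt_map_comp (AlgSp.specStr h B) a q).trans (congrArg _ ?_)
    refine PrimeSpectrum.ext (Ideal.ext fun r => ?_)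
    change θ (algebraMap R B r) ∈ maximalIdeal A ↔ r ∈ r₀.asIdeal
    rw [AlgHom.commutes, Hens.mem_maximalIdeal_iff_point, AlgHom.commutes, algebraMap_algebraicClosure_eq_zero_iff]
  refine ⟨_root_.AlgSp.Points.ofPt aB '' (V₁ ∩ V₂), AlgSpB.isOpenMap_ofPt haB _ (hV₁.inter hV₂),
    ⟨q, ⟨hqV₁, hqV₂⟩, hqy⟩, ?_⟩
  rintro y ⟨t, ⟨htV₁, htV₂⟩, rfl⟩ k hk hkg Xk u v sqk
  -- geometric fibres over points of the stage
  have hXp : ∀ p : PrimeSpectrum B, IsPullback
      (pullback.fst gB ((_root_.AlgSp.yon S).map (AlgSp.specStr hB' (AlgebraicClosure p.asIdeal.ResidueField))) ≫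
        pullback.fst gR _ ≫ pullback.fst f.hom a)
      (pullback.snd gB ((_root_.AlgSp.yon S).map (AlgSp.specStr hB' (AlgebraicClosure p.asIdeal.ResidueField))))
      f.hom (chartPt (h := hB') aB p).toHom := fun p => by
    rw [toHom_chartPt]
    exact (IsPullback.of_hasPullback gB _).paste_horiz (sB.paste_horiz sR)
  rw [AlgSpEN.GeomConnComp.card_eq_of_mk_eq f hkg (isGeometric_chartPt (h := hB') aB t)
    (hk.trans (mk_chartPt (h := hB') aB t).symm) sqk (hXp t)]
  refine le_trans ?_ (hn _ _ _ (IsPullback.of_hasPullback f.hom (chartPt a r₀).toHom))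
  rw [AlgSpEN.GeomConnComp.card_eq_of_mk_eq f (isGeometric_chartPt a r₀) (isGeometric_chartPt (h := hB') aB q)
    ((mk_chartPt a r₀).trans (hqy.symm.trans (mk_chartPt (h := hB') aB q).symm))
    (IsPullback.of_hasPullback f.hom (chartPt a r₀).toHom) (hXp q)]
  have s₀ := IsPullback.of_hasPullback gB
    ((_root_.AlgSp.yon S).map (AlgSp.specStr hB' (AlgebraicClosure q.asIdeal.ResidueField)))
  have s₁ := IsPullback.of_hasPullback gB
    ((_root_.AlgSp.yon S).map (AlgSp.specStr hB' (AlgebraicClosure (t : PrimeSpectrum B).asIdeal.ResidueField)))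
  obtain ⟨p₀, -, hp₀o, hp₀s, hp₀π, hp₀l⟩ := exists_geomFibre_chart PB s₀
  obtain ⟨p₁, hp₁c, -, hp₁s, hp₁π, hp₁l⟩ := exists_geomFibre_chart PB s₁
  obtain ⟨hover₀, hsurj₀⟩ := geomFibre_points (comap_algebraicClosure q) s₀
  obtain ⟨hover₁, hsurj₁⟩ := geomFibre_points (comap_algebraicClosure (t : PrimeSpectrum B)) s₁
  let pr₀ := PrimeSpectrum.comap
    (Algebra.TensorProduct.includeRight : B ⊗[R] E →ₐ[B] AlgebraicClosure q.asIdeal.ResidueField ⊗[B] (B ⊗[R] E)).toRingHom
  let pr₁ := PrimeSpectrum.comap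
    (Algebra.TensorProduct.includeRight :
      B ⊗[R] E →ₐ[B] AlgebraicClosure (t : PrimeSpectrum B).asIdeal.ResidueField ⊗[B] (B ⊗[R] E)).toRingHom
  have hlift₁ : ∀ x j, _root_.AlgSp.Points.map (pullback.fst gB _) x ∈ O j →
      x ∈ p₁ '' (pr₁ ⁻¹' MoreMor.sectionComponents fB (s j)) := by
    rintro x j ⟨w, hw, hwx⟩
    obtain ⟨z', rfl, hz'⟩ := hp₁l x w hwx.symm
    exact ⟨z', Set.mem_preimage.2 (by rw [show pr₁ z' = w from hz']; exact interior_subset hw), rfl⟩
  refine card_components_le (fun j => p₀ '' (pr₀ ⁻¹' C j)) (fun j => p₁ '' (pr₁ ⁻¹' MoreMor.sectionComponents fB (s j)))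
    (fun j => hp₀o _ (isOpen_interior.preimage (PrimeSpectrum.continuous_comap _))) (fun x => ?_) (fun j => ?_)
    (fun x => ?_) (fun j => (isPreconnected_preimage_sectionComponents (ψ j)).image _ hp₁c.continuousOn) ?_
  · obtain ⟨z', rfl⟩ := hp₀s x
    have hz' : fB (pr₀ z') = q := by
      rw [← hγw, ← hp₀π]
      exact hover₀ _
    obtain ⟨j, hj⟩ := hfib _ hz'
    exact ⟨j, z', hint j hj, rfl⟩
  · obtain ⟨x, hx⟩ := hsurj₀ (presPt PB (s j q)) ((hγw _).trans (hsq j q))
    obtain ⟨z', -, hz'⟩ := hp₀l x (s j q) hx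
    exact ⟨p₀ z', z', Set.mem_preimage.2 (by
      rw [show pr₀ z' = s j q from hz']; exact hint j (mem_connectedComponentIn (hsq j q))), rfl⟩
  · have hx : _root_.AlgSp.Points.map (pullback.fst gB _) x ∈ ⋃ j, O j := by
      by_contra hx
      exact htV₁ ⟨_, hx, hover₁ x⟩
    obtain ⟨j, hj⟩ := Set.mem_iUnion.1 hx
    exact ⟨j, hlift₁ x j hj⟩
  · rintro i j ⟨x, ⟨z₁, hz₁, hx₁⟩, ⟨z₂, hz₂, hx₂⟩⟩
    have hp : (q : ↥(Over.mk hB').left) ∈ γ '' (O i ∩ O j) :=
      ⟨_, ⟨⟨pr₀ z₁, hz₁, (hp₀π z₁).symm.trans (congrArg _ hx₁)⟩, ⟨pr₀ z₂, hz₂, (hp₀π z₂).symm.trans (congrArg _ hx₂)⟩⟩,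
        hover₀ x⟩
    obtain ⟨xB, ⟨hxi, hxj⟩, hxt⟩ := Set.mem_iInter.1 htV₂ ⟨(i, j), hp⟩
    obtain ⟨x', rfl⟩ := hsurj₁ xB hxt
    exact ⟨x', hlift₁ x' i hxi, hlift₁ x' j hxj⟩

end Groth.Agent.SchCover
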