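import Groth.Agent.SchCover.ClopenSpace

/-!
# Integral covers factoring through an atlas
-/

universe u

open CategoryTheory CategoryTheory.Limits AlgebraicGeometry Topology TopologicalSpace

set_option backward.isDefEq.respectTransparency false

namespace Groth.Agent.SchCover

open Groth.Agent _root_.AlgSp

variable {S : Scheme.{u}}

/-- An integral surjective cover by a scheme, locally factoring through a given atlas. -/
theorem exists_integral_cover_through (X : Space S) (hcpt : CompactSpace (AlgSp.Points X.obj))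
    (hqc : ∀ (T : Over S), IsAffine T.left → ∀ f : (yon S).obj T ⟶ X.obj, IsQuasiCompactMor f)
    {U : Over S} (b : (yon S).obj U ⟶ X.obj) (hb : RepWith @Etale b) (hbs : RepWith @Surjective b) :
    ∃ (Y : Over S) (g : (yon S).obj Y ⟶ X.obj), RepWith @IsIntegralHom g ∧
      Function.Surjective (AlgSp.Points.ofPt g) ∧
      ∀ y : ↥Y.left, ∃ (W : Y.left.Opens) (c : Over.mk (W.ι ≫ Y.hom) ⟶ U), y ∈ W ∧
        (yon S).map c ≫ b = (yon S).map (Over.homMk W.ι rfl : Over.mk (W.ι ≫ Y.hom) ⟶ Y) ≫ g := by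
  classical
  obtain ⟨U₀, r₀, hU₀, ha₀, hs₀⟩ := AlgSpB.exists_affine_chart_of_compactSpace hb hbs
  let K : ↥U₀.left → Type u := fun v => AlgebraicClosure (U₀.left.residueField v)
  let A : CommRingCat.{u} := CommRingCat.of (Π v, K v)
  let m : ∀ v, Spec (CommRingCat.of (K v)) ⟶ U₀.left := fun v =>
    Spec.map (CommRingCat.ofHom (algebraMap (U₀.left.residueField v) (K v))) ≫ U₀.left.fromSpecResidueField v
  let φ : Γ(U₀.left, ⊤) ⟶ A :=
    CommRingCat.ofHom (RingHom.pi fun v => (Spec.preimage (m v ≫ U₀.left.isoSpec.hom)).hom)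
  let τ : Spec A ⟶ U₀.left := Spec.map φ ≫ U₀.left.isoSpec.inv
  have hτ : ∀ v, ∃ t, τ t = v := fun v => by
    let ev : A ⟶ CommRingCat.of (K v) := CommRingCat.ofHom (Pi.evalRingHom K v)
    have e : Spec.map ev ≫ τ = m v := by
      have e1 : φ ≫ ev = Spec.preimage (m v ≫ U₀.left.isoSpec.hom) := by
        ext x; rfl
      rw [← Category.assoc, ← Spec.map_comp, e1, Spec.map_preimage, Category.assoc, Iso.hom_inv_id,
        Category.comp_id]
    refine ⟨Spec.map ev (IsLocalRing.closedPoint (K v)), ?_⟩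
    rw [← Scheme.Hom.comp_apply, e, Scheme.Hom.comp_apply]
    exact Scheme.fromSpecResidueField_apply v _
  let T : Over S := Over.mk (τ ≫ U₀.hom)
  let τ' : T ⟶ U₀ := Over.homMk τ rfl
  have : IsAffine T.left := inferInstanceAs (IsAffine (Spec A))
  let f : (yon S).obj T ⟶ X.obj := (yon S).map τ' ≫ (yon S).map r₀ ≫ b
  obtain ⟨Y, g, f', hn, hg, hfac⟩ := exists_scheme_of_split_of_qc X f (hqc T inferInstance f) b hb hbs
    fun O _ D dT d _ hDs hDc hdT z => exists_mono_clopen (T := T.left) dT.left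
      (fun t => by
        have : (t : PrimeSpectrum (Π v, K v)).asIdeal.IsMaximal := isMaximal_of_isPrime_pi K _
        exact (PrimeSpectrum.isClosed_singleton_iff_isMaximal (t : PrimeSpectrum (Π v, K v))).2 this)
      (fun t => isAlgClosed_residueField_pi K t) z
  refine ⟨Y, g, hg, fun x => ?_, hfac⟩
  obtain ⟨v, rfl⟩ := AlgSpB.surjective_ofPt hs₀ x
  obtain ⟨t, rfl⟩ := hτ v
  refine ⟨AlgSp.Points.toScheme Y (AlgSp.Points.ofPt f' t), ?_⟩
  rw [AlgSp.Points.ofPt_eq_map_ofScheme g, AlgSp.Points.ofScheme_toScheme, AlgSp.Points.map_ofPt, hn.1,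
    AlgSpB.ofPt_map_comp]
  rfl

end Groth.Agent.SchCover
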