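import Groth.Agent.SchCover.ClopenScheme
import Groth.Agent.S0590
import Groth.Agent.S0592
import Groth.Agent.FlatMor.SchDom
import Mathlib.AlgebraicGeometry.Morphisms.Proper

/-!
# Proper schemes under universally closed schemes
-/

universe u

open CategoryTheory CategoryTheory.Limits AlgebraicGeometry Opposite

set_option backward.isDefEq.respectTransparency false

namespace Groth.Agent.SchCover

open Groth.Agent

/-- A morphism to an affine scheme is given by its global sections. -/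
theorem toSpecΓ_SpecMap_appTop {X : Scheme.{u}} {R : CommRingCat.{u}} (f : X ⟶ Spec R) :
    X.toSpecΓ ≫ Spec.map ((Scheme.ΓSpecIso R).inv ≫ f.appTop) = f := by
  rw [Spec.map_comp, ← Scheme.toSpecΓ_naturality_assoc, toSpecΓ_SpecMap_ΓSpecIso_inv, Category.comp_id]

/-- Over an affine base, a universally closed separated surjective scheme with maps of finitely many opens to an
affine scheme of finite type is dominated by a proper surjective scheme with such maps. -/
theorem exists_proper_model {A C : CommRingCat.{u}} (c : A ⟶ C) (hc : c.hom.FiniteType) {Y : Scheme.{u}}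
    (q : Y ⟶ Spec A) [UniversallyClosed q] [IsSeparated q] [Surjective q]
    (h : ∀ y : Y, ∃ (W : Y.Opens) (k : (W : Scheme.{u}) ⟶ Spec C), y ∈ W ∧ k ≫ Spec.map c = W.ι ≫ q) :
    ∃ (N : ℕ) (Y' : Scheme.{u}) (r : Y' ⟶ Spec A) (_ : IsProper r) (_ : Surjective r) (V : Fin N → Y'.Opens),
      (∀ j, IsAffineOpen (V j)) ∧ (∀ x, ∃ j, x ∈ V j) ∧
      ∀ j, ∃ k : (V j : Scheme.{u}) ⟶ Spec C, k ≫ Spec.map c = (V j).ι ≫ r := by
  classical
  have : CompactSpace Y := QuasiCompact.compactSpace_of_compactSpace q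
  have : QuasiSeparatedSpace Y := quasiSeparatedSpace_of_quasiSeparated q
  -- finitely many affine opens with maps
  choose W k hyW hk using h
  choose U hU hyU hUW using fun y => exists_isAffineOpen_mem_and_subset (x := y) (U := W y) (hyW y)
  obtain ⟨s, hs⟩ := CompactSpace.elim_nhds_subcover (fun y => (U y : Set Y))
    (fun y => (U y).2.mem_nhds (hyU y))
  -- the approximation
  obtain ⟨I₀, _, _, _, D₀, c₀, hc₀, haff, hD₀, ⟨e⟩⟩ := S0590.result Y
  have := haff
  have : ∀ i, CompactSpace (D₀.obj i) := fun i => (hD₀ i).1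
  have : ∀ i, IsLocallyNoetherian (D₀.obj i) := fun i => by
    have := (hD₀ i).2
    exact LocallyOfFiniteType.isLocallyNoetherian (Limits.IsTerminal.from specULiftZIsTerminal (D₀.obj i))
  have : IsSeparated (Limits.IsTerminal.from specULiftZIsTerminal c₀.pt) := by
    rw [specULiftZIsTerminal.hom_ext (Limits.IsTerminal.from specULiftZIsTerminal c₀.pt)
      ((e.hom ≫ q) ≫ specULiftZIsTerminal.from (Spec A))]
    infer_instance
  obtain ⟨i₀, hi₀⟩ := S0592.result D₀ c₀ hc₀
  let D : Over i₀ ⥤ Scheme.{u} := Over.forget i₀ ⋙ D₀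
  let cY : Cone D := (c₀.whisker (Over.forget i₀)).extend e.inv
  have hcY : IsLimit cY :=
    IsLimit.ofIsoLimit ((Functor.Initial.isLimitWhiskerEquiv (Over.forget i₀) c₀).symm hc₀)
      (Cone.ext e (fun j => by simp [cY]))
  have : ∀ {i j : Over i₀} (f : i ⟶ j), IsAffineHom (D.map f) := fun f => haff _ _ _
  have : ∀ j, IsSeparated (specULiftZIsTerminal.from (D.obj j)) := fun j => hi₀ j.left j.hom
  have : ∀ j, QuasiSeparatedSpace (D.obj j) := fun j => inferInstanceAs (QuasiSeparatedSpace (D₀.obj j.left))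
  have : ∀ j, CompactSpace (D.obj j) := fun j => inferInstanceAs (CompactSpace (D₀.obj j.left))
  choose i V hV hVU using fun y : s =>
    exists_isAffineOpen_preimage_eq D cY hcY (U y.1) (hU y.1)
  letI : Algebra A C := c.hom.toAlgebra
  obtain ⟨G, hG⟩ := (RingHom.finiteType_algebraMap (A := A) (B := C)).1 hc
  have hsec : ∀ (p : s × G), ∃ (jo : Over (i p.1)) (t : Γ((opensDiagram D (i p.1) (V p.1)).obj jo, ⊤)),
      ((opensCone D cY (i p.1) (V p.1)).π.app jo).appTop t =
        (Y.homOfLE (show cY.π.app (i p.1) ⁻¹ᵁ V p.1 ≤ W p.1 from (hVU p.1).le.trans (show U p.1.1 ≤ W p.1.1 from hUW p.1.1)) ≫ k p.1).appTop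
          ((Scheme.ΓSpecIso C).inv (p.2 : C)) := fun p => by
    have : ∀ jo, IsAffine ((opensDiagram D (i p.1) (V p.1)).obj jo) := fun jo => (hV p.1).preimage (D.map jo.hom)
    exact exists_appTop_π_eq_of_isAffine_of_isLimit _ _ (isLimitOpensCone D cY hcY (i p.1) (V p.1)) _
  choose jo tt htt using hsec
  obtain ⟨j, fj⟩ := IsCofiltered.inf_objs_exists
    ((Finset.univ.image i) ∪ (Finset.univ.image fun p : s × G => (jo p).left))
  have fi : ∀ y, j ⟶ i y := fun y => (fj (by simp)).some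
  have fp : ∀ p, j ⟶ (jo p).left := fun p => (fj (by simp)).some
  -- the image
  let tm := specULiftZIsTerminal.from (D.obj j)
  let sA := specULiftZIsTerminal.from (Spec A)
  let E := pullback tm sA
  let π : Y ⟶ E := pullback.lift (cY.π.app j) q (specULiftZIsTerminal.hom_ext _ _)
  let r₀ : E ⟶ Spec A := pullback.snd tm sA
  have : LocallyOfFiniteType tm := (hD₀ j.left).2
  have : QuasiCompact tm := (quasiCompact_iff_compactSpace tm).2 inferInstance
  have hπr : π ≫ r₀ = q := pullback.lift_snd _ _ _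
  have : UniversallyClosed (π ≫ r₀) := hπr ▸ ‹_›
  have : UniversallyClosed π := UniversallyClosed.of_comp_of_isSeparated π r₀
  let Y' := π.image
  let ρ : Y ⟶ Y' := π.toImage
  let r : Y' ⟶ Spec A := π.imageι ≫ r₀
  let g : Y' ⟶ D.obj j := π.imageι ≫ pullback.fst tm sA
  have hρr : ρ ≫ r = q := by rw [Scheme.Hom.toImage_imageι_assoc, hπr]
  have hρg : ρ ≫ g = cY.π.app j := by rw [Scheme.Hom.toImage_imageι_assoc, pullback.lift_fst]
  have hsurj : Function.Surjective ρ := by
    intro z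
    have := ρ.denseRange z
    rwa [ρ.isClosedMap.isClosed_range.closure_eq] at this
  have : Surjective ρ := ⟨hsurj⟩
  have : UniversallyClosed (ρ ≫ r) := hρr ▸ ‹UniversallyClosed q›
  have : UniversallyClosed r := UniversallyClosed.of_comp_surjective ρ r
  have : IsProper r := { }
  have : Surjective r := ⟨fun x => by
    obtain ⟨y, hy⟩ := q.surjective x
    exact ⟨ρ y, by rw [← Scheme.Hom.comp_apply, hρr]; exact hy⟩⟩
  have : IsSchemeTheoreticallyDominant ρ := FlatMor.SchDom.toImage_dominant π (Or.inl inferInstance)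
  -- the opens and their maps
  let W' : s → Y'.Opens := fun y => g ⁻¹ᵁ (D.map (fi y) ⁻¹ᵁ V y)
  have hW' : ∀ y, ρ ⁻¹ᵁ W' y = cY.π.app (i y) ⁻¹ᵁ V y := fun y => by
    rw [← Scheme.Hom.comp_preimage, ← Scheme.Hom.comp_preimage, hρg, cY.w]
  have hlift : ∀ y, ∃ k' : (W' y : Scheme.{u}) ⟶ Spec C, k' ≫ Spec.map c = (W' y).ι ≫ r := by
    intro y
    let ρ' := ρ ∣_ W' y
    have : IsSchemeTheoreticallyDominant ρ' :=
      IsSchemeTheoreticallyDominant.of_isPullback (isPullback_morphismRestrict ρ (W' y)).flip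
    have : QuasiCompact ρ' := MorphismProperty.of_isPullback (isPullback_morphismRestrict ρ (W' y)).flip
      (inferInstanceAs (QuasiCompact ρ))
    let u := ρ'.appTop
    have hu : Function.Injective u := ρ'.app_injective ⊤
    let kk : (ρ ⁻¹ᵁ W' y : Scheme.{u}) ⟶ Spec C :=
      Y.homOfLE (hW' y).le ≫
        Y.homOfLE (show cY.π.app (i y) ⁻¹ᵁ V y ≤ W y from (hVU y).le.trans (show U y.1 ≤ W y.1 from hUW y.1)) ≫ k y
    have hkk : kk ≫ Spec.map c = ρ' ≫ (W' y).ι ≫ r := by
      rw [morphismRestrict_ι_assoc, hρr]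
      simp only [kk, Category.assoc, hk, Scheme.homOfLE_ι_assoc]
    let φ : C →+* Γ((ρ ⁻¹ᵁ W' y : Scheme.{u}), ⊤) := ((Scheme.ΓSpecIso C).inv ≫ kk.appTop).hom
    let ψ : A ⟶ Γ((W' y : Scheme.{u}), ⊤) := (Scheme.ΓSpecIso A).inv ≫ ((W' y).ι ≫ r).appTop
    have hφc : ∀ a, φ (c a) = u (ψ a) := fun a => by
      change (c ≫ (Scheme.ΓSpecIso C).inv ≫ kk.appTop) a =
        (((Scheme.ΓSpecIso A).inv ≫ ((W' y).ι ≫ r).appTop) ≫ ρ'.appTop) a
      rw [Scheme.ΓSpecIso_inv_naturality_assoc, Category.assoc, ← Scheme.Hom.comp_appTop, ← Scheme.Hom.comp_appTop, hkk]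
    have hgen : ∀ x ∈ G, φ x ∈ u.hom.range := by
      intro x hx
      let p : s × G := (y, ⟨x, hx⟩)
      have hle : W' y ≤ g ⁻¹ᵁ (D.map (fp p) ⁻¹ᵁ (D.map (jo p).hom ⁻¹ᵁ V y)) := by
        rw [← Scheme.Hom.comp_preimage (D.map (fp p)), ← D.map_comp]
        simp only [W']
        rw [Over.OverMorphism.ext (Quiver.Hom.unop_inj (Subsingleton.elim (fp p ≫ (jo p).hom).left.unop (fi y).left.unop))]
      let m : (W' y : Scheme.{u}) ⟶ (opensDiagram D (i y) (V y)).obj (jo p) :=
        (g ≫ D.map (fp p)).resLE _ _ (by rw [Scheme.Hom.comp_preimage]; exact hle)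
      refine ⟨m.appTop (tt p), ?_⟩
      have e1 : ρ' ≫ m = Y.homOfLE (hW' y).le ≫ (opensCone D cY (i y) (V y)).π.app (jo p) := by
        rw [← cancel_mono ((D.map (jo p).hom ⁻¹ᵁ V y).ι)]
        change (ρ' ≫ Scheme.Hom.resLE _ _ _ _) ≫ _ = (Y.homOfLE _ ≫ Scheme.Hom.resLE _ _ _ _) ≫ _
        simp only [Category.assoc, Scheme.Hom.resLE_comp_ι, Scheme.homOfLE_ι_assoc]
        rw [morphismRestrict_ι_assoc, reassoc_of% hρg, cY.w]
      change (m.appTop ≫ ρ'.appTop) (tt p) = _
      rw [← Scheme.Hom.comp_appTop, e1, Scheme.Hom.comp_appTop]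
      refine (CommRingCat.comp_apply _ _ _).trans ?_
      refine (congrArg _ (htt p)).trans ?_
      simp only [φ, kk, Scheme.Hom.comp_appTop]
      rfl
    have hrange : ∀ x, φ x ∈ u.hom.range := by
      intro x
      have hx : x ∈ Algebra.adjoin A (G : Set C) := hG ▸ trivial
      induction hx using Algebra.adjoin_induction with
      | mem z hz => exact hgen z hz
      | algebraMap a => exact ⟨ψ a, (hφc a).symm⟩
      | add a b _ _ ha hb => rw [map_add]; exact add_mem ha hb
      | mul a b _ _ ha hb => rw [map_mul]; exact mul_mem ha hb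
    let eu : Γ((W' y : Scheme.{u}), ⊤) ≃+* u.hom.range := RingEquiv.ofBijective u.hom.rangeRestrict
      ⟨fun a b hab => hu (congrArg Subtype.val hab), u.hom.rangeRestrict_surjective⟩
    let φ' : C ⟶ Γ((W' y : Scheme.{u}), ⊤) :=
      CommRingCat.ofHom (eu.symm.toRingHom.comp (φ.codRestrict u.hom.range hrange))
    have hφ' : ∀ x, u (φ' x) = φ x := fun x =>
      congrArg Subtype.val (eu.apply_symm_apply (φ.codRestrict u.hom.range hrange x))
    refine ⟨(W' y : Scheme.{u}).toSpecΓ ≫ Spec.map φ', ?_⟩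
    rw [Category.assoc, ← Spec.map_comp, ← toSpecΓ_SpecMap_appTop ((W' y).ι ≫ r)]
    congr 2
    ext a
    apply hu
    exact (hφ' (c a)).trans (hφc a)
  choose k' hk' using hlift
  have hcov : ∀ x : Y', ∃ y, x ∈ W' y := fun x => by
    obtain ⟨z, rfl⟩ := hsurj x
    obtain ⟨y, hy, hzy⟩ : ∃ y ∈ s, z ∈ U y := by
      have hz : z ∈ ⋃ y ∈ s, (U y : Set Y) := by rw [hs]; trivial
      simpa using hz
    refine ⟨⟨y, hy⟩, ?_⟩
    change z ∈ ρ ⁻¹ᵁ W' ⟨y, hy⟩
    rw [hW', hVU]
    exact hzy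
  choose y hy using hcov
  choose O hO hxO hOW using fun x => exists_isAffineOpen_mem_and_subset (x := x) (U := W' (y x)) (hy x)
  have : CompactSpace Y' := QuasiCompact.compactSpace_of_compactSpace r
  obtain ⟨s', hs'⟩ := CompactSpace.elim_nhds_subcover (fun x => (O x : Set Y'))
    (fun x => (O x).2.mem_nhds (hxO x))
  refine ⟨s'.card, Y', r, inferInstance, inferInstance, fun n => O (s'.equivFin.symm n), fun n => hO _, fun x => ?_,
    fun n => ⟨Y'.homOfLE (hOW _) ≫ k' _, by rw [Category.assoc, hk', Scheme.homOfLE_ι_assoc]⟩⟩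
  have hx : x ∈ ⋃ z ∈ s', (O z : Set Y') := by rw [hs']; trivial
  simp only [Set.mem_iUnion] at hx
  obtain ⟨z, hz, hxz⟩ := hx
  exact ⟨s'.equivFin ⟨z, hz⟩, by simpa using hxz⟩

end Groth.Agent.SchCover
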