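import Groth.Agent.SchCover.ConnLift
import Groth.Agent.AlgSp.LocPFin

/-!
# Lower semicontinuity of the number of connected components of geometric fibres
-/

universe u

open CategoryTheory CategoryTheory.Limits AlgebraicGeometry Topology IsLocalRing TensorProduct

set_option backward.isDefEq.respectTransparency false

namespace Groth.Agent.SchCover

open Groth.Agent

/-! ### Topology -/

theorem exists_disjoint_clopens {α : Type*} [TopologicalSpace α] [TopologicalSpace.NoetherianSpace α] {n : ℕ}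
    (h : (n : ℕ∞) < ENat.card (ConnectedComponents α)) :
    ∃ V : Fin (n + 1) → Set α, (∀ i, IsClopen (V i)) ∧ (∀ i, (V i).Nonempty) ∧
      ∀ i j, i ≠ j → Disjoint (V i) (V j) := by
  classical
  let mk := (ConnectedComponents.mk : α → ConnectedComponents α)
  have hfin : Finite (ConnectedComponents α) := by
    have := (TopologicalSpace.NoetherianSpace.finite_irreducibleComponents (α := α)).to_subtype
    refine Finite.of_surjective
      (fun Z : irreducibleComponents α => mk (Z.2.1.nonempty.some)) fun c => ?_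
    obtain ⟨x, rfl⟩ := ConnectedComponents.surjective_coe c
    refine ⟨⟨irreducibleComponent x, irreducibleComponent_mem_irreducibleComponents x⟩, ?_⟩
    refine ConnectedComponents.coe_eq_coe'.2 ?_
    exact irreducibleComponent_subset_connectedComponent (Set.Nonempty.some_mem _)
  have hclosed : ∀ c, IsClosed (mk ⁻¹' {c}) := fun c => by
    obtain ⟨x, rfl⟩ := ConnectedComponents.surjective_coe c
    rw [connectedComponents_preimage_singleton]
    exact isClosed_connectedComponent
  have hclopen : ∀ c, IsClopen (mk ⁻¹' {c}) := fun c => by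
    refine ⟨hclosed c, isClosed_compl_iff.1 ?_⟩
    have : (mk ⁻¹' {c})ᶜ = ⋃ d : {d // d ≠ c}, mk ⁻¹' {d.1} := by
      ext x; simp [mk]
    rw [this]
    exact isClosed_iUnion_of_finite fun d => hclosed d.1
  rw [ENat.card_eq_coe_natCard, Nat.cast_lt] at h
  obtain ⟨e⟩ : Nonempty (Fin (n + 1) ↪ ConnectedComponents α) :=
    ⟨(Fin.castLEEmb h).trans (Finite.equivFin _).symm.toEmbedding⟩
  exact ⟨fun i => mk ⁻¹' {e i}, fun i => hclopen _,
    fun i => (ConnectedComponents.surjective_coe (e i)).imp fun x hx => hx,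
    fun i j hij => (Set.disjoint_singleton.2 (e.injective.ne hij)).preimage _⟩

theorem lt_card_of_disjoint_clopens {α : Type*} [TopologicalSpace α] {n : ℕ} {V : Fin (n + 1) → Set α}
    (hV : ∀ i, IsClopen (V i)) (hne : ∀ i, (V i).Nonempty) (hd : ∀ i j, i ≠ j → Disjoint (V i) (V j)) :
    (n : ℕ∞) < ENat.card (ConnectedComponents α) := by
  choose x hx using hne
  have hinj : Function.Injective fun i => (ConnectedComponents.mk (x i) : ConnectedComponents α) := by
    intro i j hij
    by_contra hne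
    have h1 : x i ∈ connectedComponent (x j) := ConnectedComponents.coe_eq_coe'.1 hij
    exact (hd i j hne).ne_of_mem (hx i) ((hV j).connectedComponent_subset (hx j) h1) rfl
  refine lt_of_lt_of_le ?_ (ENat.card_le_card_of_injective hinj)
  rw [ENat.card_eq_coe_fintype_card, Fintype.card_fin]
  exact_mod_cast Nat.lt_succ_self n

/-! ### Fields -/

theorem isIntegral_etLoc_point {R : Type u} [CommRing R] (r₀ : PrimeSpectrum R) (K : Type u) [Field K]
    [Algebra r₀.asIdeal.ResidueField K] [Algebra.IsAlgebraic r₀.asIdeal.ResidueField K] [Algebra R K]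
    [IsScalarTower R r₀.asIdeal.ResidueField K] :
    (Hens.point R K).toRingHom.IsIntegral := by
  intro x
  let k₀ := r₀.asIdeal.ResidueField
  have hr : ∀ z : k₀, algebraMap k₀ K z ∈ (Hens.point R K).toRingHom.range := by
    intro z
    obtain ⟨a, b, hb, rfl⟩ := IsFractionRing.div_surjective (A := R ⧸ r₀.asIdeal) z
    obtain ⟨a, rfl⟩ := Ideal.Quotient.mk_surjective a
    obtain ⟨b, rfl⟩ := Ideal.Quotient.mk_surjective b
    have hK : ∀ c : R, algebraMap k₀ K (algebraMap (R ⧸ r₀.asIdeal) k₀ (Ideal.Quotient.mk r₀.asIdeal c)) =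
        Hens.point R K (algebraMap R (Hens.EtLoc R K) c) := fun c => by
      rw [AlgHom.commutes, IsScalarTower.algebraMap_apply R k₀ K]
      rfl
    have hb' : IsUnit (algebraMap R (Hens.EtLoc R K) b) := by
      refine isUnit_of_map_unit (Hens.point R K).toRingHom _ (IsUnit.mk0 _ ?_)
      change Hens.point R K (algebraMap R (Hens.EtLoc R K) b) ≠ 0
      rw [← hK]
      exact (map_ne_zero _).2 (IsFractionRing.to_map_ne_zero_of_mem_nonZeroDivisors hb)
    obtain ⟨u, hu⟩ := hb'
    refine ⟨algebraMap R (Hens.EtLoc R K) a * ↑u⁻¹, ?_⟩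
    change Hens.point R K _ = _
    rw [map_mul, map_div₀, hK, hK, ← hu, map_units_inv, div_eq_mul_inv]
  obtain ⟨q, hq, -, hqm⟩ := Polynomial.lifts_and_degree_eq_and_monic
    (f := (Hens.point R K).toRingHom) (p := (minpoly k₀ x).map (algebraMap k₀ K)) (by
      rw [Polynomial.lifts_iff_coeff_lifts]
      intro i
      rw [Polynomial.coeff_map]
      exact hr _) ((minpoly.monic (Algebra.IsIntegral.isIntegral x)).map _)
  refine ⟨q, hqm, ?_⟩
  rw [← Polynomial.eval_map, hq, Polynomial.eval_map, ← Polynomial.aeval_def, minpoly.aeval]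

theorem algebraMap_algebraicClosure_eq_zero_iff {R : Type u} [CommRing R] (r₀ : PrimeSpectrum R) (r : R) :
    algebraMap R (AlgebraicClosure r₀.asIdeal.ResidueField) r = 0 ↔ r ∈ r₀.asIdeal := by
  rw [IsScalarTower.algebraMap_apply R r₀.asIdeal.ResidueField, map_eq_zero]
  exact Ideal.algebraMap_residueField_eq_zero

theorem comap_algebraicClosure {R : Type u} [CommRing R] (r₀ : PrimeSpectrum R)
    (z : PrimeSpectrum (AlgebraicClosure r₀.asIdeal.ResidueField)) :
    PrimeSpectrum.comap (algebraMap R (AlgebraicClosure r₀.asIdeal.ResidueField)) z = r₀ := by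
  refine PrimeSpectrum.ext (Ideal.ext fun r => ?_)
  change algebraMap R _ r ∈ z.asIdeal ↔ _
  rw [show z.asIdeal = ⊥ from (Ideal.eq_bot_or_top z.asIdeal).resolve_right z.isPrime.ne_top, Ideal.mem_bot,
    algebraMap_algebraicClosure_eq_zero_iff]

/-! ### Spaces -/

variable {S : Scheme.{u}}

section Pres

variable {R : Type u} [CommRing R] {h : Spec (CommRingCat.of R) ⟶ S} {Y : _root_.AlgSp.Sp S}
  {g : Y ⟶ (_root_.AlgSp.yon S).obj (Over.mk h)} {E F : Type u} [CommRing E] [Algebra R E] [CommRing F] [Algebra R F]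

theorem toScheme_map_presPt (P : AlgSp.Pres h g E F) (t : PrimeSpectrum E) :
    _root_.AlgSp.Points.toScheme (Over.mk h) (_root_.AlgSp.Points.map g (presPt P t)) =
      PrimeSpectrum.comap (algebraMap R E) t := by
  rw [presPt, _root_.AlgSp.Points.map_ofPt, P.hga, _root_.AlgSp.Points.toScheme_ofPt]
  rfl

theorem noetherianSpace_of_pres [IsNoetherianRing R] (P : AlgSp.Pres h g E F)
    (hlft : _root_.AlgSp.LocP @LocallyOfFiniteType g) : TopologicalSpace.NoetherianSpace (_root_.AlgSp.Points Y) := by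
  have h1 : LocallyOfFiniteType (AlgSp.specStr h E).left := hlft P.a (𝟙 _) (AlgSp.specStr h E) P.ha
    (_root_.AlgSp.repWith_id @Etale _) (by rw [P.hga, Category.comp_id])
  have h2 : (algebraMap R E).FiniteType :=
    (HasRingHomProperty.Spec_iff (P := @LocallyOfFiniteType)).1
      (show LocallyOfFiniteType (Spec.map (CommRingCat.ofHom (algebraMap R E))) from h1)
  have : IsNoetherianRing E := by
    have : Algebra.FiniteType R E := RingHom.finiteType_algebraMap.1 h2
    exact Algebra.FiniteType.isNoetherianRing R E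
  exact TopologicalSpace.noetherianSpace_of_surjective (presPt P)
    (_root_.AlgSp.Points.continuous_ofPt P.a) (Set.range_eq_univ.1 (Set.range_eq_univ.2 P.hs))

/-- A morphism from the spectrum of a field as a field valued point. -/
noncomputable def fieldPtOf {G : _root_.AlgSp.Sp S} {K : Type u} [Field K] (w : Spec (CommRingCat.of K) ⟶ S)
    (m : (_root_.AlgSp.yon S).obj (Over.mk w) ⟶ G) : _root_.AlgSp.FieldPt G where
  K := K
  str := w
  val := (_root_.AlgSp.J S).uliftYonedaEquiv m

theorem toHom_fieldPtOf {G : _root_.AlgSp.Sp S} {K : Type u} [Field K] (w : Spec (CommRingCat.of K) ⟶ S)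
    (m : (_root_.AlgSp.yon S).obj (Over.mk w) ⟶ G) : (fieldPtOf w m).toHom = m :=
  Equiv.symm_apply_apply _ _

theorem mk_fieldPtOf {G : _root_.AlgSp.Sp S} {K : Type u} [Field K] (w : Spec (CommRingCat.of K) ⟶ S)
    (m : (_root_.AlgSp.yon S).obj (Over.mk w) ⟶ G) (z : PrimeSpectrum K) :
    _root_.AlgSp.Points.mk (fieldPtOf w m) = _root_.AlgSp.Points.ofPt m z := by
  rw [← _root_.AlgSp.Points.ofPt_toHom (fieldPtOf w m) z, toHom_fieldPtOf]

/-- The geometric point over a point of an affine chart. -/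
noncomputable def chartPt {G : _root_.AlgSp.Sp S} (a : (_root_.AlgSp.yon S).obj (Over.mk h) ⟶ G) (r₀ : PrimeSpectrum R) :
    _root_.AlgSp.FieldPt G :=
  fieldPtOf (Spec.map (CommRingCat.ofHom (algebraMap R (AlgebraicClosure r₀.asIdeal.ResidueField))) ≫ h)
    ((_root_.AlgSp.yon S).map (AlgSp.specStr h (AlgebraicClosure r₀.asIdeal.ResidueField)) ≫ a)

theorem mk_chartPt {G : _root_.AlgSp.Sp S} (a : (_root_.AlgSp.yon S).obj (Over.mk h) ⟶ G) (r₀ : PrimeSpectrum R) :
    _root_.AlgSp.Points.mk (chartPt a r₀) = _root_.AlgSp.Points.ofPt a r₀ := by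
  rw [chartPt, mk_fieldPtOf _ _ ⟨⊥, Ideal.isPrime_bot⟩, AlgSpB.ofPt_map_comp]
  exact congrArg _ (comap_algebraicClosure r₀ _)

theorem toHom_chartPt {G : _root_.AlgSp.Sp S} (a : (_root_.AlgSp.yon S).obj (Over.mk h) ⟶ G) (r₀ : PrimeSpectrum R) :
    (chartPt a r₀).toHom =
      (_root_.AlgSp.yon S).map (AlgSp.specStr h (AlgebraicClosure r₀.asIdeal.ResidueField)) ≫ a :=
  toHom_fieldPtOf _ _

theorem isGeometric_chartPt {G : _root_.AlgSp.Sp S} (a : (_root_.AlgSp.yon S).obj (Over.mk h) ⟶ G)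
    (r₀ : PrimeSpectrum R) : (chartPt a r₀).IsGeometric :=
  (inferInstance : IsAlgClosed (AlgebraicClosure r₀.asIdeal.ResidueField))

end Pres

/-- The geometric fibres with more than `n` components form an open set: the chart-local form. -/
theorem exists_open_chart {X Y : _root_.AlgSp.Space S} (f : X ⟶ Y) (hf1 : _root_.AlgSp.IsProperMor f.hom)
    (hf2 : _root_.AlgSp.LocP @Flat f.hom) (hf3 : _root_.AlgSp.IsFinitePresentationMor f.hom)
    {R : Type u} [CommRing R] (h : Spec (CommRingCat.of R) ⟶ S) (a : (_root_.AlgSp.yon S).obj (Over.mk h) ⟶ Y.obj)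
    (ha : _root_.AlgSp.RepWith @Etale a) (r₀ : PrimeSpectrum R) (n : ℕ)
    (hn : ∀ (Xk : _root_.AlgSp.Sp S) (u : Xk ⟶ X.obj) (v : Xk ⟶ (_root_.AlgSp.yon S).obj (chartPt a r₀).pt),
      IsPullback u v f.hom (chartPt a r₀).toHom → (n : ℕ∞) < ENat.card (ConnectedComponents (_root_.AlgSp.Points Xk))) :
    ∃ O : Set (_root_.AlgSp.Points Y.obj), IsOpen O ∧ _root_.AlgSp.Points.ofPt a r₀ ∈ O ∧
      ∀ y ∈ O, ∀ k : _root_.AlgSp.FieldPt Y.obj, _root_.AlgSp.Points.mk k = y → k.IsGeometric →
        ∀ (Xk : _root_.AlgSp.Sp S) (u : Xk ⟶ X.obj) (v : Xk ⟶ (_root_.AlgSp.yon S).obj k.pt),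
          IsPullback u v f.hom k.toHom → (n : ℕ∞) < ENat.card (ConnectedComponents (_root_.AlgSp.Points Xk)) := by
  classical
  let K : Type u := AlgebraicClosure r₀.asIdeal.ResidueField
  let XR := pullback f.hom a
  let gR : XR ⟶ (_root_.AlgSp.yon S).obj (Over.mk h) := pullback.snd f.hom a
  have sR : IsPullback (pullback.fst f.hom a) gR f.hom a := IsPullback.of_hasPullback _ _
  have hXR : _root_.AlgSp.IsAlgSpace XR :=
    AlgSp.isAlgSpace_pullback Y.property X.property (_root_.AlgSp.IsAlgSpace.yon_obj _) f.hom a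
  have hpR : _root_.AlgSp.IsProperMor gR := AlgSpD.isProperMor_baseChange X.property Y.property sR hf1
  have hflR : _root_.AlgSp.LocP @Flat gR :=
    AlgSpCov.locP_baseChange AlgSpCov.etaleLocal_flat X.property Y.property sR hf2
  have hfpR : _root_.AlgSp.LocP @LocallyOfFinitePresentation gR :=
    AlgSpCov.locP_baseChange AlgSpCov.etaleLocal_locallyOfFinitePresentation X.property Y.property sR hf3.1
  obtain ⟨E, F, _, _, ⟨P⟩⟩ := AlgSp.exists_pres (h := h) hXR hpR.2.1.2 (AlgSp.isQuasiSeparatedMor_of_sep hpR.1)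
  -- the strictly henselian base change
  let A : Type u := Hens.EtLoc R K
  letI : Algebra A K := (Hens.point R K).toRingHom.toAlgebra
  haveI : IsScalarTower R A K := .of_algebraMap_eq' (Hens.point R K).comp_algebraMap.symm
  haveI : IsLocalHom (algebraMap A K) := inferInstanceAs (IsLocalHom (Hens.point R K).toRingHom)
  haveI : Algebra.IsIntegral A K := ⟨isIntegral_etLoc_point r₀ K⟩
  haveI : IsSepClosed (ResidueField A) := isSepClosed_residueField_etLoc
  let hA := Spec.map (CommRingCat.ofHom (algebraMap R A)) ≫ h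
  let XA := pullback gR ((_root_.AlgSp.yon S).map (AlgSp.specStr h A))
  let gA : XA ⟶ (_root_.AlgSp.yon S).obj (Over.mk hA) := pullback.snd gR _
  have sA : IsPullback (pullback.fst gR _) gA gR ((_root_.AlgSp.yon S).map (AlgSp.specStr h A)) :=
    IsPullback.of_hasPullback _ _
  have hXA : _root_.AlgSp.IsAlgSpace XA :=
    AlgSp.isAlgSpace_pullback (_root_.AlgSp.IsAlgSpace.yon_obj _) hXR (_root_.AlgSp.IsAlgSpace.yon_obj _) gR _
  have hpA : _root_.AlgSp.IsProperMor gA :=
    AlgSpD.isProperMor_baseChange hXR (_root_.AlgSp.IsAlgSpace.yon_obj _) sA hpR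
  -- the geometric fibre
  let Q := pullback gA ((_root_.AlgSp.yon S).map (AlgSp.specStr hA K))
  have sQ : IsPullback (pullback.fst gA _) (pullback.snd gA _) gA
      ((_root_.AlgSp.yon S).map (AlgSp.specStr hA K)) := IsPullback.of_hasPullback _ _
  have hstr : Spec.map (CommRingCat.ofHom (algebraMap A K)) ≫ hA =
      Spec.map (CommRingCat.ofHom (algebraMap R K)) ≫ h := by
    simp only [hA, ← Category.assoc, ← Spec.map_comp]
    congr 2
    exact CommRingCat.hom_ext (IsScalarTower.algebraMap_eq R A K).symm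
  let iso : (chartPt a r₀).pt ≅ AlgSp.specOver hA K := Over.isoMk (Iso.refl _) (by
    change 𝟙 _ ≫ Spec.map (CommRingCat.ofHom (algebraMap A K)) ≫ hA = _
    rw [Category.id_comp, hstr]; rfl)
  have hcomp : (chartPt a r₀).toHom = (_root_.AlgSp.yon S).map iso.hom ≫
      ((_root_.AlgSp.yon S).map (AlgSp.specStr hA K) ≫ (_root_.AlgSp.yon S).map (AlgSp.specStr h A)) ≫ a := by
    rw [toHom_chartPt, ← Functor.map_comp, ← Functor.map_comp_assoc]
    congr 2
    apply Over.OverMorphism.ext
    change Spec.map _ = 𝟙 _ ≫ Spec.map _ ≫ Spec.map _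
    rw [Category.id_comp, ← Spec.map_comp]
    congr 1
    exact CommRingCat.hom_ext (IsScalarTower.algebraMap_eq R A K)
  have hQn : (n : ℕ∞) < ENat.card (ConnectedComponents (_root_.AlgSp.Points Q)) := by
    refine hn Q (pullback.fst gA _ ≫ pullback.fst gR _ ≫ pullback.fst f.hom a)
      (pullback.snd gA _ ≫ (_root_.AlgSp.yon S).map iso.inv) ?_
    rw [hcomp]
    refine IsPullback.of_iso ((sQ.paste_horiz sA).paste_horiz sR) (Iso.refl _) (Iso.refl _)
      ((_root_.AlgSp.yon S).mapIso iso.symm) (Iso.refl _) (by simp) (by simp) (by simp) ?_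
    rw [Iso.refl_hom, Category.comp_id, Functor.mapIso_hom, Iso.symm_hom]
    erw [← Category.assoc ((_root_.AlgSp.yon S).map iso.inv), ((_root_.AlgSp.yon S).mapIso iso).inv_hom_id,
      Category.id_comp]
  have hQa : _root_.AlgSp.IsAlgSpace Q :=
    AlgSp.isAlgSpace_pullback (_root_.AlgSp.IsAlgSpace.yon_obj _) hXA (_root_.AlgSp.IsAlgSpace.yon_obj _) gA _
  have hpQ := AlgSpD.isProperMor_baseChange hXA (_root_.AlgSp.IsAlgSpace.yon_obj _) sQ hpA
  obtain ⟨EQ, FQ, _, _, ⟨PQ⟩⟩ := AlgSp.exists_pres (h := Spec.map (CommRingCat.ofHom (algebraMap A K)) ≫ hA) hQa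
    hpQ.2.1.2 (AlgSp.isQuasiSeparatedMor_of_sep hpQ.1)
  have := noetherianSpace_of_pres PQ hpQ.2.1.1
  obtain ⟨V, hV, hVne, hVd⟩ := exists_disjoint_clopens hQn
  obtain ⟨U, hU, hUne, hUd⟩ := exists_clopens_lift hXA hpA.1 hpA.2.1.2 hpA.2.2 sQ V hV hVne hVd
  -- idempotents
  obtain ⟨PA, hPAp, hPAq, -⟩ := P.exists_baseChange A sA
  choose e he hepq heU _ using fun i => exists_idem_of_isClopen PA (hU i)
  have ho : ∀ i j, i ≠ j → e i * e j = 0 := fun i j hij => by
    refine PrimeSpectrum.basicOpen_injOn_isIdempotentElem ((he i).mul (he j)) IsIdempotentElem.zero ?_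
    rw [PrimeSpectrum.basicOpen_zero]
    refine TopologicalSpace.Opens.ext ?_
    have h1 := presSet_mul PA (e' := e j) (hepq i)
    rw [heU, heU, Set.disjoint_iff_inter_eq_empty.1 (hUd i j hij), eq_comm, presSet, Set.image_eq_empty] at h1
    exact h1
  obtain ⟨B, _, _, hB, θ, w, hw, hwi, hwo, hwpq⟩ := exists_stage_idem P.p P.q (n + 1) e he ho
    (fun i => by have := hepq i; rwa [hPAp, hPAq] at this)
  let hB' := Spec.map (CommRingCat.ofHom (algebraMap R B)) ≫ h
  let XB := pullback gR ((_root_.AlgSp.yon S).map (AlgSp.specStr h B))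
  let gB : XB ⟶ (_root_.AlgSp.yon S).obj (Over.mk hB') := pullback.snd gR _
  have sB : IsPullback (pullback.fst gR _) gB gR ((_root_.AlgSp.yon S).map (AlgSp.specStr h B)) :=
    IsPullback.of_hasPullback _ _
  have hXB : _root_.AlgSp.IsAlgSpace XB :=
    AlgSp.isAlgSpace_pullback (_root_.AlgSp.IsAlgSpace.yon_obj _) hXR (_root_.AlgSp.IsAlgSpace.yon_obj _) gR _
  obtain ⟨PB, hPBp, hPBq, -⟩ := P.exists_baseChange B sB
  let VB : Fin (n + 1) → Set (_root_.AlgSp.Points XB) := fun i => presSet PB (w i)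
  have hpqB : ∀ i, PB.p (w i) = PB.q (w i) := fun i => by rw [hPBp, hPBq]; exact hwpq i
  have hVB : ∀ i, IsClopen (VB i) := fun i => isClopen_presSet PB (hwi i) (hpqB i)
  have hVBd : ∀ i j, i ≠ j → Disjoint (VB i) (VB j) := fun i j hij => by
    rw [Set.disjoint_iff_inter_eq_empty, presSet_mul PB (hpqB i), hwo i j hij, presSet_zero]
  let γ : _root_.AlgSp.Points XB → ↥(Over.mk hB').left := fun x =>
    _root_.AlgSp.Points.toScheme (Over.mk hB') (_root_.AlgSp.Points.map gB x)
  have hopen : IsOpenMap (_root_.AlgSp.Points.map gB) :=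
    AlgSp.isUnivOpenMor_of_flat_lfp hXB (_root_.AlgSp.IsAlgSpace.yon_obj _) gB
      (AlgSpCov.locP_baseChange AlgSpCov.etaleLocal_flat hXR (_root_.AlgSp.IsAlgSpace.yon_obj _) sB hflR)
      (AlgSpCov.locP_baseChange AlgSpCov.etaleLocal_locallyOfFinitePresentation hXR
        (_root_.AlgSp.IsAlgSpace.yon_obj _) sB hfpR)
      (_root_.AlgSp.IsAlgSpace.yon_obj _) (𝟙 _) (𝟙 _) gB IsPullback.of_id_fst
  have hW : ∀ i, IsOpen (γ '' VB i) := fun i => by
    rw [show γ = (_root_.AlgSp.Points.schemeHomeo (Over.mk hB')).symm ∘ _root_.AlgSp.Points.map gB from rfl,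
      Set.image_comp]
    exact (_root_.AlgSp.Points.schemeHomeo (Over.mk hB')).symm.isOpenMap _ (hopen _ (hVB i).2)
  let q : PrimeSpectrum B := PrimeSpectrum.comap θ.toRingHom (closedPoint A)
  have hq : ∀ i, q ∈ γ '' VB i := fun i => by
    obtain ⟨x, hx, hxc⟩ := hUne i
    rw [← heU i] at hx
    obtain ⟨t, ht, rfl⟩ := hx
    let θE := Algebra.TensorProduct.map θ (AlgHom.id R E)
    refine ⟨presPt PB (PrimeSpectrum.comap θE.toRingHom t), ⟨_, ?_, rfl⟩, ?_⟩
    · change θE (w i) ∉ t.asIdeal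
      rw [hw i]; exact ht
    · have h1 : PrimeSpectrum.comap (algebraMap A (A ⊗[R] E)) t = closedPoint A :=
        (toScheme_map_presPt PA t).symm.trans hxc
      change _ = PrimeSpectrum.comap θ.toRingHom (closedPoint A)
      rw [← h1]
      refine (toScheme_map_presPt PB _).trans ?_
      change PrimeSpectrum.comap _ (PrimeSpectrum.comap _ t) = PrimeSpectrum.comap _ (PrimeSpectrum.comap _ t)
      rw [← PrimeSpectrum.comap_comp_apply, ← PrimeSpectrum.comap_comp_apply]
      exact congrArg (fun φ => PrimeSpectrum.comap φ t) (RingHom.ext fun b => by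
        change θE (b ⊗ₜ 1) = θ b ⊗ₜ 1
        simp [θE])
  let aB := (_root_.AlgSp.yon S).map (AlgSp.specStr h B) ≫ a
  have haB : _root_.AlgSp.RepWith @Etale aB := by
    have : Etale (AlgSp.specStr h B).left :=
      show Etale (Spec.map (CommRingCat.ofHom (algebraMap R B))) from
        (HasRingHomProperty.Spec_iff (P := @Etale)).2 (RingHom.etale_algebraMap.2 hB)
    exact AlgSpB.repWith_etale_map_comp _ ha
  refine ⟨_root_.AlgSp.Points.ofPt aB '' ⋂ i, γ '' VB i, AlgSpB.isOpenMap_ofPt haB _ (isOpen_iInter_of_finite hW),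
    ⟨q, Set.mem_iInter.2 hq, ?_⟩, ?_⟩
  · refine (AlgSpB.ofPt_map_comp (AlgSp.specStr h B) a q).trans (congrArg _ ?_)
    refine PrimeSpectrum.ext (Ideal.ext fun r => ?_)
    change θ (algebraMap R B r) ∈ maximalIdeal A ↔ r ∈ r₀.asIdeal
    rw [AlgHom.commutes, Hens.mem_maximalIdeal_iff_point, AlgHom.commutes, algebraMap_algebraicClosure_eq_zero_iff]
  rintro y ⟨t, ht, rfl⟩ k hk hkg Xk u v sq
  let Q' := pullback gB ((_root_.AlgSp.yon S).map (AlgSp.specStr hB' (AlgebraicClosure (t : PrimeSpectrum B).asIdeal.ResidueField)))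
  have sQ' : IsPullback (pullback.fst gB _) (pullback.snd gB _) gB
      ((_root_.AlgSp.yon S).map (AlgSp.specStr hB' (AlgebraicClosure (t : PrimeSpectrum B).asIdeal.ResidueField))) :=
    IsPullback.of_hasPullback _ _
  have sX : IsPullback (pullback.fst gB _ ≫ pullback.fst gR _ ≫ pullback.fst f.hom a)
      (pullback.snd gB ((_root_.AlgSp.yon S).map (AlgSp.specStr hB' (AlgebraicClosure (t : PrimeSpectrum B).asIdeal.ResidueField))))
      f.hom (chartPt (h := hB') aB t).toHom := by
    rw [toHom_chartPt]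
    exact sQ'.paste_horiz (sB.paste_horiz sR)
  rw [AlgSpEN.GeomConnComp.card_eq_of_mk_eq f hkg (isGeometric_chartPt (h := hB') aB t)
    (hk.trans (mk_chartPt (h := hB') aB t).symm) sq sX]
  refine lt_card_of_disjoint_clopens
    (V := fun i => _root_.AlgSp.Points.map (pullback.fst gB _) ⁻¹' VB i)
    (fun i => (hVB i).preimage (_root_.AlgSp.Points.continuous_map _)) (fun i => ?_)
    (fun i j hij => (hVBd i j hij).preimage _)
  obtain ⟨x, hx, hxt⟩ := Set.mem_iInter.1 ht i
  obtain ⟨z, hz, -⟩ := AlgSpB.exists_of_isPullback sQ' x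
    (_root_.AlgSp.Points.schemeHomeo _ (⟨⊥, Ideal.isPrime_bot⟩ : PrimeSpectrum _)) (by
      rw [_root_.AlgSp.Points.map_yon_map_apply, ← _root_.AlgSp.Points.ofScheme_toScheme (Over.mk hB')
        (_root_.AlgSp.Points.map gB x), show _root_.AlgSp.Points.toScheme (Over.mk hB') (_root_.AlgSp.Points.map gB x) = t
          from hxt]
      exact congrArg _ (comap_algebraicClosure (t : PrimeSpectrum B) _).symm)
  exact ⟨z, Set.mem_preimage.2 (by rw [hz]; exact hx)⟩

end Groth.Agent.SchCover
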