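import Groth.Agent.Hens.ProperClopenGen
import Groth.Agent.S0590
import Groth.Agent.S0592

/-!
# Clopen lifting for separated universally closed schemes over a henselian local ring
-/

universe u

open CategoryTheory CategoryTheory.Limits AlgebraicGeometry Opposite

set_option backward.isDefEq.respectTransparency false

namespace Groth.Agent.SchCover

open Groth.Agent

variable {A : Type u} [CommRing A] [IsLocalRing A] {Y : Scheme.{u}} (q : Y ⟶ Spec (CommRingCat.of A))

theorem preimage_zeroLocus_maximalIdeal :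
    q ⁻¹' PrimeSpectrum.zeroLocus (IsLocalRing.maximalIdeal A : Set A) = q ⁻¹' {IsLocalRing.closedPoint A} := by
  congr 1
  exact PrimeSpectrum.zeroLocus_eq_singleton (IsLocalRing.maximalIdeal A)

/-- A closed subset missing the closed fibre is empty. -/
theorem eq_empty_of_inter_closedFibre [UniversallyClosed q] {F : Set Y} (hF : IsClosed F)
    (h : F ∩ q ⁻¹' {IsLocalRing.closedPoint A} = ∅) : F = ∅ := by
  by_contra hne
  obtain ⟨y, hy⟩ := Set.nonempty_iff_ne_empty.2 hne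
  obtain ⟨z, hz, e⟩ := (IsLocalRing.specializes_closedPoint (R := A) (q y)).mem_closed (q.isClosedMap F hF) ⟨y, hy, rfl⟩
  exact Set.eq_empty_iff_forall_notMem.1 h z ⟨hz, e⟩

/-- Clopen sets agreeing on the closed fibre are equal. -/
theorem eq_of_inter_closedFibre [UniversallyClosed q] {U U' : Set Y} (hU : IsClopen U) (hU' : IsClopen U')
    (h : U ∩ q ⁻¹' {IsLocalRing.closedPoint A} = U' ∩ q ⁻¹' {IsLocalRing.closedPoint A}) : U = U' := by
  have key : ∀ U U' : Set Y, IsClopen U → IsClopen U' →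
      U ∩ q ⁻¹' {IsLocalRing.closedPoint A} = U' ∩ q ⁻¹' {IsLocalRing.closedPoint A} → U ⊆ U' := by
    intro U U' hU hU' h x hx
    by_contra hx'
    have := eq_empty_of_inter_closedFibre q (hU.1.inter hU'.compl.1) (Set.eq_empty_iff_forall_notMem.2
      fun z ⟨⟨h1, h2⟩, h3⟩ => h2 ((Set.ext_iff.1 h z).1 ⟨h1, h3⟩).1)
    exact Set.eq_empty_iff_forall_notMem.1 this x ⟨hx, hx'⟩
  exact (key U U' hU hU' h).antisymm (key U' U hU' hU h.symm)

/-- Over a henselian local ring, clopen subsets of the closed fibre of a separated universally closed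
scheme extend to clopen subsets. -/
theorem exists_clopen [HenselianLocalRing A] [UniversallyClosed q] [IsSeparated q] {V : Set Y}
    (hVZ : V ⊆ q ⁻¹' {IsLocalRing.closedPoint A})
    (hV : IsClopen (Subtype.val ⁻¹' V : Set ↥(q ⁻¹' {IsLocalRing.closedPoint A}))) :
    ∃ U : Set Y, IsClopen U ∧ U ∩ q ⁻¹' {IsLocalRing.closedPoint A} = V := by
  classical
  let Z : Set Y := q ⁻¹' {IsLocalRing.closedPoint A}
  have hZ : IsClosed Z := (IsLocalRing.isClosed_singleton_closedPoint A).preimage q.continuous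
  have hVc : IsClosed V := by
    have := hZ.isClosedEmbedding_subtypeVal.isClosedMap _ hV.1
    rwa [Subtype.image_preimage_coe, Set.inter_eq_right.2 hVZ] at this
  have hVc' : IsClosed (Z \ V) := by
    have := hZ.isClosedEmbedding_subtypeVal.isClosedMap _ hV.compl.1
    rwa [← Set.preimage_compl, Subtype.image_preimage_coe] at this
  have : CompactSpace Y := QuasiCompact.compactSpace_of_compactSpace q
  have : QuasiSeparatedSpace Y := quasiSeparatedSpace_of_quasiSeparated q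
  -- a quasi-compact open cutting out the clopen set
  obtain ⟨O, hO, hOV⟩ := isOpen_induced_iff.1 hV.2
  have hOV' : O ∩ Z = V := by
    ext z
    refine ⟨fun ⟨h1, h2⟩ => (Set.ext_iff.1 hOV ⟨z, h2⟩).1 h1, fun h => ⟨(Set.ext_iff.1 hOV ⟨z, hVZ h⟩).2 h, hVZ h⟩⟩
  obtain ⟨W, hWc, hWo, hVW, hWO⟩ := PrespectralSpace.exists_isCompact_and_isOpen_between hVc.isCompact hO
    (hOV' ▸ Set.inter_subset_left)
  -- approximate
  obtain ⟨I, _, _, _, D, c, hc, haff, hD, ⟨e⟩⟩ := S0590.result Y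
  have := haff
  have : ∀ i, CompactSpace (D.obj i) := fun i => (hD i).1
  have : ∀ i, IsLocallyNoetherian (D.obj i) := fun i => by
    have := (hD i).2
    exact LocallyOfFiniteType.isLocallyNoetherian (Limits.IsTerminal.from specULiftZIsTerminal (D.obj i))
  have : IsSeparated (Limits.IsTerminal.from specULiftZIsTerminal c.pt) := by
    rw [specULiftZIsTerminal.hom_ext (Limits.IsTerminal.from specULiftZIsTerminal c.pt)
      ((e.hom ≫ q) ≫ specULiftZIsTerminal.from (Spec (CommRingCat.of A)))]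
    infer_instance
  obtain ⟨i₀, hi₀⟩ := S0592.result D c hc
  obtain ⟨i₁, W₁, hW₁c, hW₁⟩ := exists_preimage_eq D c hc (e.hom ⁻¹ᵁ ⟨W, hWo⟩)
    (e.hom.isCompact_preimage (U := ⟨W, hWo⟩) hWc)
  let i := IsCofiltered.min i₀ i₁
  let a : i ⟶ i₁ := IsCofiltered.minToRight i₀ i₁
  have hsep := hi₀ i (IsCofiltered.minToLeft i₀ i₁)
  let t := Limits.IsTerminal.from specULiftZIsTerminal (D.obj i)
  let s := specULiftZIsTerminal.from (Spec (CommRingCat.of A))
  let E := pullback t s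
  let π : Y ⟶ E := pullback.lift (e.inv ≫ c.π.app i) q (specULiftZIsTerminal.hom_ext _ _)
  let r : E ⟶ Spec (CommRingCat.of A) := pullback.snd t s
  have : LocallyOfFiniteType t := (hD i).2
  have : QuasiCompact t := (quasiCompact_iff_compactSpace t).2 inferInstance
  have hπr : π ≫ r = q := pullback.lift_snd _ _ _
  have : UniversallyClosed (π ≫ r) := hπr ▸ ‹_›
  have : UniversallyClosed π := UniversallyClosed.of_comp_of_isSeparated π r
  let W₂ : Set E := pullback.fst t s ⁻¹' (D.map a ⁻¹' (W₁ : Set (D.obj i₁)))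
  have hW₂ : π ⁻¹' W₂ = W := by
    ext y
    show D.map a (pullback.fst t s (π y)) ∈ W₁ ↔ y ∈ W
    rw [← Scheme.Hom.comp_apply π, pullback.lift_fst, ← Scheme.Hom.comp_apply, Category.assoc, c.w,
      Scheme.Hom.comp_apply]
    have h1 : c.π.app i₁ (e.inv y) ∈ W₁ ↔ e.inv y ∈ e.hom ⁻¹ᵁ ⟨W, hWo⟩ := by rw [← hW₁]; rfl
    refine h1.trans ?_
    show e.hom (e.inv y) ∈ W ↔ _
    rw [← Scheme.Hom.comp_apply, e.inv_hom_id]
    rfl
  -- the image
  let Z' := π.image
  let ρ : Y ⟶ Z' := π.toImage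
  let r' : Z' ⟶ Spec (CommRingCat.of A) := π.imageι ≫ r
  have hρr : ρ ≫ r' = q := by rw [Scheme.Hom.toImage_imageι_assoc, hπr]
  have hsurj : Function.Surjective ρ := by
    intro z
    have := ρ.denseRange z
    rwa [ρ.isClosedMap.isClosed_range.closure_eq] at this
  have : Surjective ρ := ⟨hsurj⟩
  have : UniversallyClosed (ρ ≫ r') := hρr ▸ ‹UniversallyClosed q›
  have : UniversallyClosed r' := UniversallyClosed.of_comp_surjective ρ r'
  have : IsProper r' := { }
  have hr' : ∀ y, r' (ρ y) = q y := fun y => by rw [← Scheme.Hom.comp_apply, hρr]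
  have hdisj : ∀ v ∈ V, ∀ w ∈ Z \ V, ρ v ≠ ρ w := by
    intro v hv w hw h
    have hπ : π v = π w := by
      rw [← π.toImage_imageι, Scheme.Hom.comp_apply, Scheme.Hom.comp_apply, h]
    have hv' : π v ∈ W₂ := by
      show v ∈ π ⁻¹' W₂
      rw [hW₂]; exact hVW hv
    rw [hπ] at hv'
    have hw' : w ∈ W := hW₂ ▸ hv'
    exact hw.2 (hOV' ▸ ⟨hWO hw', hw.1⟩)
  have hcl : IsClopen (Subtype.val ⁻¹' (ρ '' V) :
      Set ↥(r' ⁻¹' PrimeSpectrum.zeroLocus (IsLocalRing.maximalIdeal A : Set A))) := by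
    refine ⟨(ρ.isClosedMap V hVc).preimage continuous_subtype_val, isClosed_compl_iff.1 ?_⟩
    have : (Subtype.val ⁻¹' (ρ '' V) : Set ↥(r' ⁻¹' PrimeSpectrum.zeroLocus (IsLocalRing.maximalIdeal A : Set A)))ᶜ =
        Subtype.val ⁻¹' (ρ '' (Z \ V)) := by
      ext ⟨z, hz⟩
      obtain ⟨y, rfl⟩ := hsurj z
      rw [preimage_zeroLocus_maximalIdeal] at hz
      have hyZ : y ∈ Z := Set.mem_preimage.2 ((hr' y) ▸ Set.mem_preimage.1 hz)
      simp only [Set.mem_compl_iff, Set.mem_preimage, Set.mem_image]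
      constructor
      · exact fun h => ⟨y, ⟨hyZ, fun hy => h ⟨y, hy, rfl⟩⟩, rfl⟩
      · rintro ⟨w, hw, hwy⟩ ⟨v, hv, hvy⟩
        exact hdisj v hv w hw (hvy.trans hwy.symm)
    rw [this]
    exact (ρ.isClosedMap _ hVc').preimage continuous_subtype_val
  obtain ⟨U', ⟨hU', hU'V⟩, -⟩ := Hens.ProperClopenGen.existsUnique_clopen (IsLocalRing.maximalIdeal A) r'
    (V := ρ '' V) (by
      rw [preimage_zeroLocus_maximalIdeal]
      rintro _ ⟨v, hv, rfl⟩
      exact Set.mem_preimage.2 ((hr' v).symm ▸ Set.mem_preimage.1 (hVZ hv))) hcl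
  rw [preimage_zeroLocus_maximalIdeal] at hU'V
  refine ⟨ρ ⁻¹' U', hU'.preimage ρ.continuous, ?_⟩
  ext y
  constructor
  · rintro ⟨hy, hyZ⟩
    have : ρ y ∈ U' ∩ r' ⁻¹' {IsLocalRing.closedPoint A} := ⟨hy, Set.mem_preimage.2 ((hr' y).symm ▸ Set.mem_preimage.1 hyZ)⟩
    rw [hU'V] at this
    obtain ⟨v, hv, hvy⟩ := this
    by_contra hyV
    exact hdisj v hv y ⟨hyZ, hyV⟩ hvy
  · intro hy
    have : ρ y ∈ U' ∩ r' ⁻¹' {IsLocalRing.closedPoint A} := hU'V ▸ ⟨y, hy, rfl⟩
    exact ⟨this.1, hVZ hy⟩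

end Groth.Agent.SchCover
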