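import Groth.Agent.SchCover.Sch
import Groth.Agent.ProEtW.Spectral
import Groth.Agent.Wt.GeomPts
import Groth.Agent.Wt.Master

/-!
# Etale schemes over products of algebraically closed fields
-/

universe u

open CategoryTheory CategoryTheory.Limits AlgebraicGeometry Topology

set_option backward.isDefEq.respectTransparency false

namespace Groth.Agent.SchCover

open Groth.Agent

/-- An etale scheme over an affine scheme with closed points and algebraically closed residue fields is
covered by clopen subschemes mapping monomorphically to it. -/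
theorem exists_mono_clopen {D T : Scheme.{u}} [IsAffine T] [D.IsSeparated] [CompactSpace D] (d : D ⟶ T) [Etale d]
    (hT : ∀ t : T, IsClosed ({t} : Set T)) (hK : ∀ t : T, IsAlgClosed (T.residueField t)) (z : D) :
    ∃ N : D.Opens, IsClosed (N : Set D) ∧ z ∈ N ∧ Mono (N.ι ≫ d) := by
  have : LocallyQuasiFinite d := Wt.Master.locallyQuasiFinite_of_etale d
  have : T1Space D := ⟨fun x => by
    have hc : IsClosed (d ⁻¹' {d x}) := (hT _).preimage d.continuous
    have := (d.isDiscrete_preimage_singleton (d x)).to_subtype
    have := hc.isClosedEmbedding_subtypeVal.isClosedMap _ (isClosed_discrete {(⟨x, rfl⟩ : ↥(d ⁻¹' {d x}))})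
    simpa using this⟩
  have : SpectralSpace D := {}
  have : T2Space D := ProEtW.Spectral.t2Space_of_t1Space
  have : QuasiCompact d := (quasiCompact_iff_compactSpace d).2 inferInstance
  let R := pullback d d
  have : CompactSpace R := QuasiCompact.compactSpace_of_compactSpace (pullback.fst d d)
  let C : Set R := (Set.range (pullback.diagonal d))ᶜ
  have hC : IsCompact C := ((pullback.diagonal d).isOpenEmbedding.isOpen_range.isClosed_compl).isCompact
  let ι := {N : Set D // IsClopen N ∧ z ∈ N}
  let V : ι → Set R := fun N => (pullback.fst d d ⁻¹' N.1 ∩ pullback.snd d d ⁻¹' N.1)ᶜ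
  have hV : ∀ N, IsOpen (V N) := fun N =>
    ((N.2.1.1.preimage (pullback.fst d d).continuous).inter (N.2.1.1.preimage (pullback.snd d d).continuous)).isOpen_compl
  have hcov : C ⊆ ⋃ N, V N := by
    intro r hr
    have key : pullback.fst d d r ≠ z ∨ pullback.snd d d r ≠ z := by
      by_contra h
      push Not at h
      obtain ⟨h1, h2⟩ := h
      have := hK (d z)
      let a := R.fromSpecResidueField r ≫ pullback.fst d d
      have e : a = R.fromSpecResidueField r ≫ pullback.snd d d :=
        eq_of_etale_of_isAlgClosed d z (Wt.GeomPts.residueFieldMap_finite d z) (K := R.residueField r) _ _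
          (fun w => by
            rw [Scheme.Hom.comp_apply]
            exact (congrArg (pullback.fst d d) (Scheme.fromSpecResidueField_apply r w)).trans h1)
          (fun w => by
            rw [Scheme.Hom.comp_apply]
            exact (congrArg (pullback.snd d d) (Scheme.fromSpecResidueField_apply r w)).trans h2)
          (by simp only [a, Category.assoc, pullback.condition])
      have e2 : R.fromSpecResidueField r = a ≫ pullback.diagonal d := by
        apply pullback.hom_ext
        · simp [a]
        · rw [Category.assoc, pullback.diagonal_snd, Category.comp_id]; exact e.symm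
      refine hr ⟨a (IsLocalRing.closedPoint (R.residueField r)), ?_⟩
      rw [← Scheme.Hom.comp_apply, ← e2, Scheme.fromSpecResidueField_apply]
    rcases key with h | h
    · obtain ⟨N, hN, hzN, hxN⟩ := exists_isClopen_of_totally_separated (Ne.symm h)
      exact Set.mem_iUnion.2 ⟨⟨N, hN, hzN⟩, fun hh => hxN hh.1⟩
    · obtain ⟨N, hN, hzN, hxN⟩ := exists_isClopen_of_totally_separated (Ne.symm h)
      exact Set.mem_iUnion.2 ⟨⟨N, hN, hzN⟩, fun hh => hxN hh.2⟩
  obtain ⟨s, hs⟩ := hC.elim_finite_subcover V hV hcov
  have hN : IsClopen (⋂ N ∈ s, N.1) := isClopen_biInter_finset fun N _ => N.2.1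
  refine ⟨⟨_, hN.2⟩, hN.1, Set.mem_iInter₂.2 fun N _ => N.2.2, ⟨fun {A} g1 g2 e => ?_⟩⟩
  let N₀ : D.Opens := ⟨_, hN.2⟩
  let l := pullback.lift (f := d) (g := d) (g1 ≫ N₀.ι) (g2 ≫ N₀.ι) (by simp only [Category.assoc]; exact e)
  have hl : Set.range l ⊆ Set.range (pullback.diagonal d) := by
    rintro _ ⟨x, rfl⟩
    by_contra hx
    obtain ⟨N, hNs, hxV⟩ := Set.mem_iUnion₂.1 (hs hx)
    refine hxV ⟨?_, ?_⟩
    · show pullback.fst d d (l x) ∈ N.1
      rw [← Scheme.Hom.comp_apply, pullback.lift_fst, Scheme.Hom.comp_apply]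
      exact Set.mem_iInter₂.1 (g1 x).2 N hNs
    · show pullback.snd d d (l x) ∈ N.1
      rw [← Scheme.Hom.comp_apply, pullback.lift_snd, Scheme.Hom.comp_apply]
      exact Set.mem_iInter₂.1 (g2 x).2 N hNs
  have hl' := IsOpenImmersion.lift_fac (pullback.diagonal d) l hl
  rw [← cancel_mono N₀.ι, ← pullback.lift_fst (f := d) (g := d) (g1 ≫ N₀.ι) (g2 ≫ N₀.ι)
      (by simp only [Category.assoc]; exact e)]
  conv_rhs => rw [← pullback.lift_snd (f := d) (g := d) (g1 ≫ N₀.ι) (g2 ≫ N₀.ι)
      (by simp only [Category.assoc]; exact e)]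
  change l ≫ _ = l ≫ _
  rw [← hl', Category.assoc, Category.assoc, pullback.diagonal_fst, pullback.diagonal_snd]

section pi

variable {ι : Type u} (K : ι → Type u) [∀ i, Field (K i)]

/-- Every prime of a product of fields is maximal. -/
theorem isMaximal_of_isPrime_pi (p : Ideal (Π i, K i)) [p.IsPrime] : p.IsMaximal := by
  classical
  refine Ideal.isMaximal_iff.2 ⟨fun h => ‹p.IsPrime›.ne_top ((Ideal.eq_top_iff_one p).2 h), fun J a hJ ha haJ => ?_⟩
  let y : Π i, K i := fun i => (a i)⁻¹
  have e : a * (1 - a * y) = 0 := by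
    funext i
    simp only [Pi.mul_apply, Pi.sub_apply, Pi.one_apply, Pi.zero_apply, y]
    by_cases h : a i = 0
    · simp [h]
    · rw [mul_inv_cancel₀ h, sub_self, mul_zero]
  have h1 : 1 - a * y ∈ p := (‹p.IsPrime›.mem_or_mem (e ▸ p.zero_mem)).resolve_left ha
  have := J.add_mem (hJ h1) (J.mul_mem_right y haJ)
  simpa using this

/-- The residue fields of a product of algebraically closed fields are algebraically closed. -/
theorem isAlgClosed_residueField_pi [∀ i, IsAlgClosed (K i)] (t : ↥(Spec (CommRingCat.of (Π i, K i)))) :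
    IsAlgClosed ((Spec (CommRingCat.of (Π i, K i))).residueField t) := by
  classical
  let p : Ideal (Π i, K i) := t.asIdeal
  have := isMaximal_of_isPrime_pi K p
  let : Field ((Π i, K i) ⧸ p) := Ideal.Quotient.field p
  have hq : IsAlgClosed ((Π i, K i) ⧸ p) := by
    refine IsAlgClosed.of_exists_root _ fun P hP hirr => ?_
    obtain ⟨Q, hQ, hdeg, hQm⟩ := Polynomial.lifts_and_degree_eq_and_monic
      (Polynomial.map_surjective (Ideal.Quotient.mk p) Ideal.Quotient.mk_surjective P) hP
    have hroot : ∀ i, ∃ r : K i, (Q.map (Pi.evalRingHom K i)).IsRoot r := fun i =>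
      IsAlgClosed.exists_root _ (by
        rw [hQm.degree_map, hdeg]; exact (Polynomial.degree_pos_of_irreducible hirr).ne')
    choose r hr using hroot
    refine ⟨Ideal.Quotient.mk p r, ?_⟩
    have hQr : Q.eval r = 0 := by
      funext i
      have := hr i
      rw [Polynomial.IsRoot, Polynomial.eval_map, show r i = Pi.evalRingHom K i r from rfl,
        Polynomial.eval₂_at_apply] at this
      exact this
    show P.eval _ = 0
    rw [← hQ, Polynomial.eval_map, Polynomial.eval₂_at_apply, hQr, map_zero]
  refine IsAlgClosed.of_ringEquiv _ _ ((RingEquiv.ofBijective _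
    (Ideal.bijective_algebraMap_quotient_residueField p)).trans
    (Scheme.Spec.residueFieldIso (CommRingCat.of (Π i, K i)) t).commRingCatIsoToRingEquiv.symm)

end pi

end Groth.Agent.SchCover
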