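import Groth.Agent.SchCover.Build
import Groth.Agent.SchCover.Split
import Groth.Agent.SchCover.ClopenScheme
import Groth.Agent.AlgSpB.Charts
import Groth.Agent.AlgSp.UnivClosed
import Groth.Agent.AlgSpD.ProperMor
import Groth.Agent.AlgSp.NormQf
import Groth.Agent.AlgSpSpec.Approx

/-!
# Clopen lifting for algebraic spaces over a henselian local ring
-/

universe u

open CategoryTheory CategoryTheory.Limits AlgebraicGeometry Topology TopologicalSpace

set_option backward.isDefEq.respectTransparency false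

namespace Groth.Agent.SchCover

open Groth.Agent _root_.AlgSp

variable {S : Scheme.{u}}

/-- An integral surjective cover by a scheme of a space with quasi-compact affine charts. -/
theorem exists_integral_cover_of_qc (X : Space S) (hcpt : CompactSpace (AlgSp.Points X.obj))
    (hqc : ∀ (T : Over S), IsAffine T.left → ∀ f : (yon S).obj T ⟶ X.obj, IsQuasiCompactMor f) :
    ∃ (Y : Over S) (g : (yon S).obj Y ⟶ X.obj), RepWith @IsIntegralHom g ∧
      Function.Surjective (AlgSp.Points.ofPt g) := by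
  classical
  obtain ⟨U, b, hb, hbs⟩ := X.property.atlas
  obtain ⟨U₀, r₀, hU₀, ha₀, hs₀⟩ := AlgSpB.exists_affine_chart_of_compactSpace hb hbs
  let K : ↥U₀.left → Type u := fun v => AlgebraicClosure (U₀.left.residueField v)
  let A : CommRingCat.{u} := CommRingCat.of (Π v, K v)
  let m : ∀ v, Spec (CommRingCat.of (K v)) ⟶ U₀.left := fun v =>
    Spec.map (CommRingCat.ofHom (algebraMap (U₀.left.residueField v) (K v))) ≫ U₀.left.fromSpecResidueField v
  let φ : Γ(U₀.left, ⊤) ⟶ A :=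
    CommRingCat.ofHom (RingHom.pi fun v => (Spec.preimage (m v ≫ U₀.left.isoSpec.hom)).hom)
  let τ : Spec A ⟶ U₀.left := Spec.map φ ≫ U₀.left.isoSpec.inv
  have hτ : ∀ v, ∃ t, τ t = v := fun v => by
    let ev : A ⟶ CommRingCat.of (K v) := CommRingCat.ofHom (Pi.evalRingHom K v)
    have e : Spec.map ev ≫ τ = m v := by
      have e1 : φ ≫ ev = Spec.preimage (m v ≫ U₀.left.isoSpec.hom) := by
        ext x; rfl
      rw [← Category.assoc, ← Spec.map_comp, e1, Spec.map_preimage, Category.assoc, Iso.hom_inv_id,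
        Category.comp_id]
    refine ⟨Spec.map ev (IsLocalRing.closedPoint (K v)), ?_⟩
    rw [← Scheme.Hom.comp_apply, e, Scheme.Hom.comp_apply]
    exact Scheme.fromSpecResidueField_apply v _
  let T : Over S := Over.mk (τ ≫ U₀.hom)
  let τ' : T ⟶ U₀ := Over.homMk τ rfl
  have : IsAffine T.left := inferInstanceAs (IsAffine (Spec A))
  let f : (yon S).obj T ⟶ X.obj := (yon S).map τ' ≫ (yon S).map r₀ ≫ b
  obtain ⟨Y, g, f', hn, hg, -⟩ := exists_scheme_of_split_of_qc X f (hqc T inferInstance f) b hb hbs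
    fun O _ D dT d _ hDs hDc hdT z => exists_mono_clopen (T := T.left) dT.left
      (fun t => by
        have : (t : PrimeSpectrum (Π v, K v)).asIdeal.IsMaximal := isMaximal_of_isPrime_pi K _
        exact (PrimeSpectrum.isClosed_singleton_iff_isMaximal (t : PrimeSpectrum (Π v, K v))).2 this)
      (fun t => isAlgClosed_residueField_pi K t) z
  refine ⟨Y, g, hg, fun x => ?_⟩
  obtain ⟨v, rfl⟩ := AlgSpB.surjective_ofPt hs₀ x
  obtain ⟨t, rfl⟩ := hτ v
  refine ⟨AlgSp.Points.toScheme Y (AlgSp.Points.ofPt f' t), ?_⟩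
  rw [AlgSp.Points.ofPt_eq_map_ofScheme g, AlgSp.Points.ofScheme_toScheme, AlgSp.Points.map_ofPt, hn.1,
    AlgSpB.ofPt_map_comp]
  rfl

/-- A representable universally closed map from a scheme is closed on points. -/
theorem isClosedMap_ofPt {F : AlgSp.Sp S} {T : Over S} {ν : (yon S).obj T ⟶ F}
    (hν : RepWith @IsIntegralHom ν) : IsClosedMap (AlgSp.Points.ofPt ν) := by
  have h := Groth.Agent.AlgSp.isClosedMap_map_of_repWith
    (Groth.Agent.AlgSp.repWith_mono (fun g (_ : IsIntegralHom g) => (inferInstance : UniversallyClosed g)) hν)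
  have e : AlgSp.Points.ofPt ν = AlgSp.Points.map ν ∘ AlgSp.Points.schemeHomeo T := funext fun t =>
    AlgSp.Points.ofPt_eq_map_ofScheme ν t
  rw [e]
  exact h.comp (AlgSp.Points.schemeHomeo T).isClosedMap

variable {A : Type u} [CommRing A] [IsLocalRing A] {h : Spec (CommRingCat.of A) ⟶ S} {P : AlgSp.Sp S}
  (g : P ⟶ (yon S).obj (Over.mk h))

/-- The closed fibre. -/
def closedFib : Set (AlgSp.Points P) :=
  {x | AlgSp.Points.toScheme (Over.mk h) (AlgSp.Points.map g x) = IsLocalRing.closedPoint A}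

variable {g}

theorem eq_empty_of_inter_closedFib (hc : IsClosedMap (AlgSp.Points.map g)) {F : Set (AlgSp.Points P)}
    (hF : IsClosed F) (e : F ∩ closedFib g = ∅) : F = ∅ := by
  by_contra hne
  obtain ⟨x, hx⟩ := Set.nonempty_iff_ne_empty.2 hne
  let t : PrimeSpectrum A := AlgSp.Points.toScheme (Over.mk h) (AlgSp.Points.map g x)
  have hcl : IsClosed (AlgSp.Points.schemeHomeo (Over.mk h) ⁻¹' (AlgSp.Points.map g '' F)) :=
    (hc F hF).preimage (AlgSp.Points.schemeHomeo _).continuous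
  obtain ⟨z, hz, hzt⟩ := (IsLocalRing.specializes_closedPoint (R := A) t).mem_closed hcl
    ⟨x, hx, (AlgSp.Points.ofScheme_toScheme _ _).symm⟩
  refine Set.eq_empty_iff_forall_notMem.1 e z ⟨hz, ?_⟩
  change AlgSp.Points.toScheme (Over.mk h) (AlgSp.Points.map g z) = _
  rw [hzt]
  exact AlgSp.Points.toScheme_ofScheme (Over.mk h) _

theorem eq_empty_of_isClopen (hc : IsClosedMap (AlgSp.Points.map g)) {U : Set (AlgSp.Points P)}
    (hU : IsClopen U) (e : U ∩ closedFib g = ∅) : U = ∅ :=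
  eq_empty_of_inter_closedFib hc hU.1 e

/-- Over a henselian local ring, clopen subsets of the closed fibre of a separated, quasi-compact, universally
closed space extend to clopen subsets. -/
theorem exists_clopen_space [HenselianLocalRing A] (hP : IsAlgSpace P) (hsep : IsSeparatedMor g)
    (hqc : IsQuasiCompactMor g) (huc : IsUnivClosedMor g) {V : Set (AlgSp.Points P)} (hVZ : V ⊆ closedFib g)
    (hV : IsClosed V) (hV' : IsClosed (closedFib g \ V)) :
    ∃ U : Set (AlgSp.Points P), IsClopen U ∧ U ∩ closedFib g = V := by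
  classical
  let B : Over S := Over.mk h
  have hB : IsAlgSpace ((yon S).obj B) := IsAlgSpace.yon_obj _
  have : IsAffine B.left := inferInstanceAs (IsAffine (Spec (CommRingCat.of A)))
  have : CompactSpace ↥B.left := inferInstance
  have hcpt : CompactSpace (AlgSp.Points P) := Groth.Agent.AlgSp.compactSpace_points
    (hqc hB (Groth.Agent.AlgSp.isQuasiCompactSp_yon B) (𝟙 _) (𝟙 _) g IsPullback.of_id_fst)
  obtain ⟨Y, ν, hν, hsur⟩ := exists_integral_cover_of_qc ⟨P, hP⟩ hcpt fun T hT f => by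
    obtain ⟨c, hc⟩ := (yon S).map_surjective (f ≫ g)
    refine Groth.Agent.AlgSp.isQuasiCompactMor_of_comp (IsAlgSpace.yon_obj T) hP hB f g ?_
      (Groth.Agent.AlgSp.isQuasiSeparatedMor_of_sep hsep)
    rw [← hc]
    exact Groth.Agent.AlgSp.isQuasiCompactMor_of_repWith hB
      ((repWith_yon_map_iff _ _).2 (inferInstanceAs (QuasiCompact c.left)))
  obtain ⟨q, hq⟩ := (yon S).map_surjective (ν ≫ g)
  have hνuc : IsUnivClosedMor ν := Groth.Agent.AlgSp.isUnivClosedMor_of_repWith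
    (Groth.Agent.AlgSp.repWith_mono (fun g (_ : IsIntegralHom g) => (inferInstance : UniversallyClosed g)) hν)
  have hquc : IsUnivClosedMor ((yon S).map q) := hq ▸ Groth.Agent.AlgSp.isUnivClosedMor_comp hP hB hνuc huc
  have : UniversallyClosed q.left := (repWith_yon_map_iff _ _).1
    ((Groth.Agent.AlgSp.repWith_universallyClosed_iff _
      (((repWith_yon_map_iff ⊤ q).2 trivial).1)).2 hquc)
  have : IsSeparated q.left := (isSeparatedMor_yon_map_iff q).1 (hq ▸ AlgSpD.isSeparatedMor_comp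
    (Groth.Agent.AlgSpSpec.isSeparatedMor_of_affine (IsAlgSpace.yon_obj Y)
      (Groth.Agent.AlgSp.repWith_mono (fun g (_ : IsIntegralHom g) => (inferInstance : IsAffineHom g)) hν)) hsep)
  let q' : Y.left ⟶ Spec (CommRingCat.of A) := q.left
  have : UniversallyClosed q' := ‹_›
  have : IsSeparated q' := ‹_›
  let Z : Set ↥Y.left := q' ⁻¹' {IsLocalRing.closedPoint A}
  have hmem : ∀ y, AlgSp.Points.ofPt ν y ∈ closedFib g ↔ y ∈ Z := fun y => by
    change AlgSp.Points.toScheme B (AlgSp.Points.map g (AlgSp.Points.ofPt ν y)) = _ ↔ _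
    rw [AlgSp.Points.map_ofPt, ← hq, AlgSp.Points.toScheme_ofPt]
    rfl
  let V₁ : Set ↥Y.left := AlgSp.Points.ofPt ν ⁻¹' V
  have hcont := AlgSp.Points.continuous_ofPt ν
  have hV₁Z : V₁ ⊆ Z := fun y hy => (hmem y).1 (hVZ hy)
  have hV₁ : IsClopen (Subtype.val ⁻¹' V₁ : Set ↥Z) := by
    refine ⟨(hV.preimage hcont).preimage continuous_subtype_val, isClosed_compl_iff.1 ?_⟩
    have : (Subtype.val ⁻¹' V₁ : Set ↥Z)ᶜ =
        Subtype.val ⁻¹' (AlgSp.Points.ofPt ν ⁻¹' (closedFib g \ V)) := by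
      ext ⟨y, hy⟩
      simp [V₁, (hmem y).2 hy]
    rw [this]
    exact (hV'.preimage hcont).preimage continuous_subtype_val
  obtain ⟨U₁, hU₁, hU₁V⟩ := exists_clopen q' hV₁Z hV₁
  obtain ⟨R, ρ₁, ρ₂, sR⟩ := AlgSpB.exists_pullback_yon hν.1 ν
  have : IsIntegralHom ρ₂.left := hν.2 _ _ _ sR
  let r : R.left ⟶ Spec (CommRingCat.of A) := ρ₂.left ≫ q'
  have hr : ρ₁.left ≫ q' = r := by
    have e : ρ₁ ≫ q = ρ₂ ≫ q := (yon S).map_injective (by
      rw [Functor.map_comp, Functor.map_comp, hq, ← Category.assoc, sR.w, Category.assoc])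
    exact congrArg (fun m : R ⟶ B => m.left) e
  have hR : ∀ z, AlgSp.Points.ofPt ν (ρ₁.left z) = AlgSp.Points.ofPt ν (ρ₂.left z) := fun z => by
    rw [← AlgSpB.ofPt_map_comp, ← AlgSpB.ofPt_map_comp, sR.w]
  have heq : ρ₁.left ⁻¹' U₁ = ρ₂.left ⁻¹' U₁ := by
    refine eq_of_inter_closedFibre r (hU₁.preimage ρ₁.left.continuous) (hU₁.preimage ρ₂.left.continuous) ?_
    have key : ∀ y, y ∈ Z → (y ∈ U₁ ↔ AlgSp.Points.ofPt ν y ∈ V) := fun y hy =>
      ⟨fun h' => (hU₁V ▸ ⟨h', hy⟩ : y ∈ V₁), fun h' => (hU₁V.symm ▸ h' : y ∈ U₁ ∩ Z).1⟩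
    ext z
    constructor
    · rintro ⟨h1, h2⟩
      have hz1 : ρ₁.left z ∈ Z := by
        refine Set.mem_preimage.2 ?_
        rw [← Scheme.Hom.comp_apply, hr]; exact h2
      exact ⟨(key _ h2).2 (hR z ▸ (key _ hz1).1 h1), h2⟩
    · rintro ⟨h1, h2⟩
      have hz1 : ρ₁.left z ∈ Z := by
        refine Set.mem_preimage.2 ?_
        rw [← Scheme.Hom.comp_apply, hr]; exact h2
      exact ⟨(key _ hz1).2 ((hR z).symm ▸ (key _ h2).1 h1), h2⟩
  have hsat : ∀ y y', AlgSp.Points.ofPt ν y = AlgSp.Points.ofPt ν y' → y ∈ U₁ → y' ∈ U₁ := by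
    intro y y' e hy
    obtain ⟨z, hz1, hz2⟩ := AlgSpB.exists_of_isPullback sR (AlgSp.Points.ofScheme Y y) (AlgSp.Points.ofScheme Y y')
      (by rw [← AlgSp.Points.ofPt_eq_map_ofScheme, ← AlgSp.Points.ofPt_eq_map_ofScheme, e])
    obtain ⟨z, rfl⟩ := (AlgSp.Points.schemeHomeo R).surjective z
    rw [AlgSp.Points.map_yon_map_apply] at hz1 hz2
    have e1 : ρ₁.left z = y := (AlgSp.Points.schemeHomeo Y).injective hz1
    have e2 : ρ₂.left z = y' := (AlgSp.Points.schemeHomeo Y).injective hz2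
    have : z ∈ ρ₁.left ⁻¹' U₁ := Set.mem_preimage.2 (by rw [e1]; exact hy)
    rw [heq] at this
    rw [Set.mem_preimage, e2] at this; exact this
  have hcompl : (AlgSp.Points.ofPt ν '' U₁)ᶜ = AlgSp.Points.ofPt ν '' U₁ᶜ := by
    ext x
    obtain ⟨y, rfl⟩ := hsur x
    exact ⟨fun h' => ⟨y, fun hy => h' ⟨y, hy, rfl⟩, rfl⟩,
      fun ⟨w, hw, hwy⟩ ⟨v, hv, hvy⟩ => hw (hsat v w (hvy.trans hwy.symm) hv)⟩
  refine ⟨AlgSp.Points.ofPt ν '' U₁, ⟨isClosedMap_ofPt hν _ hU₁.1, isClosed_compl_iff.1 ?_⟩, ?_⟩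
  · rw [hcompl]; exact isClosedMap_ofPt hν _ hU₁.compl.1
  · ext x
    obtain ⟨y, rfl⟩ := hsur x
    constructor
    · rintro ⟨⟨v, hv, hvy⟩, hyZ⟩
      have : y ∈ U₁ ∩ Z := ⟨hsat v y hvy hv, (hmem y).1 hyZ⟩
      rw [hU₁V] at this
      exact this
    · intro hy
      exact ⟨⟨y, (hU₁V.symm ▸ hy : y ∈ U₁ ∩ Z).1, rfl⟩, hVZ hy⟩

end Groth.Agent.SchCover
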