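import Groth.Agent.AlgSp.NormAffine
import Groth.Agent.Hens.Local
import Mathlib.RingTheory.Spectrum.Prime.Topology
import Mathlib.LinearAlgebra.TensorProduct.Quotient
import Mathlib.FieldTheory.IsSepClosed

/-!
# Idempotents of presentations and clopen subsets; descent to étale stages
-/

universe u

open CategoryTheory CategoryTheory.Limits AlgebraicGeometry Topology TensorProduct IsLocalRing

set_option backward.isDefEq.respectTransparency false

namespace Groth.Agent.SchCover

open Groth.Agent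

section Idem

variable {S : Scheme.{u}} {K : Type u} [CommRing K] {h : Spec (CommRingCat.of K) ⟶ S} {Y : AlgSp.Sp S}
  {g : Y ⟶ (_root_.AlgSp.yon S).obj (Over.mk h)} {E F : Type u} [CommRing E] [Algebra K E] [CommRing F] [Algebra K F]

/-- The atlas of a presentation on points. -/
noncomputable def presPt (P : AlgSp.Pres h g E F) : PrimeSpectrum E → _root_.AlgSp.Points Y :=
  fun t => _root_.AlgSp.Points.ofPt P.a t

theorem presPt_rel (P : AlgSp.Pres h g E F) (s : PrimeSpectrum F) :
    presPt P (PrimeSpectrum.comap P.p.toRingHom s) = presPt P (PrimeSpectrum.comap P.q.toRingHom s) := by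
  change _root_.AlgSp.Points.ofPt P.a ((AlgSp.specMap h P.p).left s) =
    _root_.AlgSp.Points.ofPt P.a ((AlgSp.specMap h P.q).left s)
  rw [← AlgSpB.ofPt_map_comp, ← AlgSpB.ofPt_map_comp, ← P.hp, ← P.hq, Functor.map_comp, Functor.map_comp,
    Category.assoc, Category.assoc, P.sR.w]

theorem exists_of_presPt_eq (P : AlgSp.Pres h g E F) {t t' : PrimeSpectrum E} (e : presPt P t = presPt P t') :
    ∃ s : PrimeSpectrum F, PrimeSpectrum.comap P.p.toRingHom s = t ∧ PrimeSpectrum.comap P.q.toRingHom s = t' := by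
  obtain ⟨z, hz1, hz2⟩ := AlgSpB.exists_of_isPullback P.sR
    (_root_.AlgSp.Points.ofScheme (AlgSp.specOver h E) t) (_root_.AlgSp.Points.ofScheme (AlgSp.specOver h E) t')
    (by rw [← _root_.AlgSp.Points.ofPt_eq_map_ofScheme, ← _root_.AlgSp.Points.ofPt_eq_map_ofScheme]; exact e)
  obtain ⟨z, rfl⟩ := (_root_.AlgSp.Points.schemeHomeo P.R).surjective z
  rw [_root_.AlgSp.Points.map_yon_map_apply] at hz1 hz2
  have := P.hrs
  obtain ⟨s, rfl⟩ := P.r.left.surjective z
  refine ⟨s, ?_, ?_⟩
  · rw [← Scheme.Hom.comp_apply, ← Over.comp_left, P.hp] at hz1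
    exact (_root_.AlgSp.Points.schemeHomeo (AlgSp.specOver h E)).injective hz1
  · rw [← Scheme.Hom.comp_apply, ← Over.comp_left, P.hq] at hz2
    exact (_root_.AlgSp.Points.schemeHomeo (AlgSp.specOver h E)).injective hz2

/-- The subset of the space cut out by an idempotent. -/
def presSet (P : AlgSp.Pres h g E F) (e : E) : Set (_root_.AlgSp.Points Y) :=
  presPt P '' (PrimeSpectrum.basicOpen e : Set (PrimeSpectrum E))

theorem preimage_presSet (P : AlgSp.Pres h g E F) {e : E} (hpq : P.p e = P.q e) :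
    presPt P ⁻¹' presSet P e = PrimeSpectrum.basicOpen e := by
  refine Set.Subset.antisymm (fun t ⟨t', ht', htt⟩ => ?_) (Set.subset_preimage_image _ _)
  obtain ⟨s, rfl, rfl⟩ := exists_of_presPt_eq P htt
  have h1 : P.p e ∉ s.asIdeal := ht'
  rw [hpq] at h1
  exact h1

theorem isClopen_presSet (P : AlgSp.Pres h g E F) {e : E} (he : IsIdempotentElem e) (hpq : P.p e = P.q e) :
    IsClopen (presSet P e) := by
  have ho : IsOpenMap (presPt P) := AlgSpB.isOpenMap_ofPt P.ha
  have hc : (presSet P e)ᶜ = presPt P '' ((PrimeSpectrum.basicOpen e : Set (PrimeSpectrum E))ᶜ) := by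
    ext x
    obtain ⟨t, rfl⟩ := P.hs x
    constructor
    · exact fun h' => ⟨t, fun ht => h' ⟨t, ht, rfl⟩, rfl⟩
    · rintro ⟨w, hw, hwy⟩ hx
      exact hw (((Set.ext_iff.1 (preimage_presSet P hpq)) w).1 (show presPt P w ∈ presSet P e from
        (show presPt P w = presPt P t from hwy) ▸ hx))
  refine ⟨isOpen_compl_iff.1 ?_, ho _ (PrimeSpectrum.basicOpen e).isOpen⟩
  rw [hc]
  exact ho _ (PrimeSpectrum.isClopen_iff.2 ⟨e, he, rfl⟩).compl.2

theorem presSet_zero (P : AlgSp.Pres h g E F) : presSet P 0 = ∅ := by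
  simp [presSet]

theorem presSet_mul (P : AlgSp.Pres h g E F) {e e' : E} (hpq : P.p e = P.q e) :
    presSet P e ∩ presSet P e' = presSet P (e * e') := by
  rw [presSet, presSet, presSet, PrimeSpectrum.basicOpen_mul]
  refine Set.Subset.antisymm ?_ ?_
  · rintro x ⟨hx, t, ht, rfl⟩
    exact ⟨t, ⟨(Set.ext_iff.1 (preimage_presSet P hpq) t).1 hx, ht⟩, rfl⟩
  · exact Set.image_inter_subset _ _ _

/-- Clopen subsets come from idempotents equalized by the two projections. -/
theorem exists_idem_of_isClopen (P : AlgSp.Pres h g E F) {V : Set (_root_.AlgSp.Points Y)} (hV : IsClopen V) :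
    ∃ e : E, IsIdempotentElem e ∧ P.p e = P.q e ∧ presSet P e = V ∧
      presPt P ⁻¹' V = PrimeSpectrum.basicOpen e := by
  have hc : Continuous (presPt P) := _root_.AlgSp.Points.continuous_ofPt P.a
  obtain ⟨e, he, hW⟩ := PrimeSpectrum.isClopen_iff.1 (hV.preimage hc)
  refine ⟨e, he, ?_, ?_, hW⟩
  · refine PrimeSpectrum.basicOpen_injOn_isIdempotentElem (he.map P.p) (he.map P.q) ?_
    refine TopologicalSpace.Opens.ext (Set.ext fun s => ?_)
    have h1 := (Set.ext_iff.1 hW (PrimeSpectrum.comap P.p.toRingHom s))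
    have h2 := (Set.ext_iff.1 hW (PrimeSpectrum.comap P.q.toRingHom s))
    rw [Set.mem_preimage, presPt_rel] at h1
    exact h1.symm.trans h2
  · rw [presSet, ← hW, Set.image_preimage_eq _ (show Function.Surjective (presPt P) from P.hs)]

end Idem

section Stage

variable {R : Type u} [CommRing R] {K : Type u} [Field K] [Algebra R K]

/-- An element of an étale stage tensored with a module which dies in `EtLoc R K` is killed by an element that is
nonzero at the point. -/
theorem exists_smul_eq_zero_of_map_eq_zero {B : Type u} [CommRing B] [Algebra R B] [Algebra.Etale R B]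
    (θ : B →ₐ[R] Hens.EtLoc R K) {M : Type u} [AddCommGroup M] [Module R M] {z : B ⊗[R] M}
    (hz : θ.toLinearMap.rTensor M z = 0) : ∃ s : B, Hens.point R K (θ s) ≠ 0 ∧ s • z = 0 := by
  letI := θ.toRingHom.toAlgebra
  haveI : IsScalarTower R B (Hens.EtLoc R K) := .of_algebraMap_eq' θ.comp_algebraMap.symm
  haveI : Module.Flat B (Hens.EtLoc R K) :=
    Algebra.FormallyUnramified.flat_of_restrictScalars R B (Hens.EtLoc R K)
  let I : Ideal B := LinearMap.ker (LinearMap.toSpanSingleton B (B ⊗[R] M) z)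
  let ψ : (B ⧸ I) →ₗ[B] B ⊗[R] M := I.liftQ (LinearMap.toSpanSingleton B (B ⊗[R] M) z) le_rfl
  have hψ : Function.Injective ψ := LinearMap.ker_eq_bot.1 (Submodule.ker_liftQ_eq_bot _ _ _ le_rfl)
  let c := TensorProduct.AlgebraTensorModule.cancelBaseChange R B B (Hens.EtLoc R K) M
  have hc : ∀ w : B ⊗[R] M, c ((1 : Hens.EtLoc R K) ⊗ₜ[B] w) = θ.toLinearMap.rTensor M w := by
    intro w
    induction w using TensorProduct.induction_on with
    | zero => simp
    | tmul b m =>
      rw [TensorProduct.AlgebraTensorModule.cancelBaseChange_tmul, LinearMap.rTensor_tmul,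
        Algebra.smul_def, mul_one]
      rfl
    | add x y hx hy => rw [TensorProduct.tmul_add, map_add, map_add, hx, hy]
  have h0 : (1 : Hens.EtLoc R K) ⊗ₜ[B] (Submodule.Quotient.mk 1 : B ⧸ I) = 0 := by
    apply Module.Flat.lTensor_preserves_injective_linearMap (M := Hens.EtLoc R K) ψ hψ
    apply c.injective
    rw [LinearMap.lTensor_tmul, map_zero, map_zero, show ψ (Submodule.Quotient.mk 1) = z from
      (Submodule.liftQ_apply _ _ _).trans (one_smul B z), hc, hz]
  have hI : (1 : Hens.EtLoc R K) ∈ (I • ⊤ : Submodule B (Hens.EtLoc R K)) := by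
    rw [← Submodule.Quotient.mk_eq_zero]
    have := congrArg (TensorProduct.tensorQuotEquivQuotSMul (Hens.EtLoc R K) I) h0
    rw [map_zero] at this
    rw [show (Submodule.Quotient.mk (1 : B) : B ⧸ I) = Ideal.Quotient.mk I 1 from rfl,
      TensorProduct.tensorQuotEquivQuotSMul_tmul_mk, one_smul] at this
    exact this
  rw [Ideal.smul_top_eq_map, Submodule.restrictScalars_mem] at hI
  by_contra hne
  have hle : I.map (algebraMap B (Hens.EtLoc R K)) ≤ maximalIdeal (Hens.EtLoc R K) := by
    rw [Ideal.map_le_iff_le_comap]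
    intro s hs
    rw [Ideal.mem_comap, Hens.mem_maximalIdeal_iff_point]
    by_contra h'
    exact hne ⟨s, h', hs⟩
  exact (maximalIdeal.isMaximal (Hens.EtLoc R K)).ne_top ((Ideal.eq_top_iff_one _).2 (hle hI))

theorem tensor_map_rTensor {B A : Type u} [CommRing B] [Algebra R B] [CommRing A] [Algebra R A] (f : B →ₐ[R] A)
    {M : Type u} [CommRing M] [Algebra R M] (z : B ⊗[R] M) :
    f.toLinearMap.rTensor M z = Algebra.TensorProduct.map f (AlgHom.id R M) z := by
  rfl

/-- Every tensor with `EtLoc R K` comes from an étale stage. -/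
theorem exists_stage_tensor {M : Type u} [CommRing M] [Algebra R M] (n : ℕ) (z : Fin n → Hens.EtLoc R K ⊗[R] M) :
    ∃ (B : Type u) (_ : CommRing B) (_ : Algebra R B), Algebra.Etale R B ∧
      ∃ (θ : B →ₐ[R] Hens.EtLoc R K) (w : Fin n → B ⊗[R] M),
        ∀ i, Algebra.TensorProduct.map θ (AlgHom.id R M) (w i) = z i := by
  classical
  choose s hs using fun i => TensorProduct.exists_finset (z i)
  obtain ⟨B, _, _, hB, θ, hθ⟩ :=
    Hens.exists_stage_finset (Finset.univ.biUnion fun i => (s i).image Prod.fst)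
  have : ∀ i, ∃ w : B ⊗[R] M, Algebra.TensorProduct.map θ (AlgHom.id R M) w = z i := by
    intro i
    rw [hs i]
    have hmem : ∀ x ∈ s i, x.1 ⊗ₜ[R] x.2 ∈ (Algebra.TensorProduct.map θ (AlgHom.id R M)).range := by
      intro x hx
      obtain ⟨b, hb⟩ := hθ x.1 (Finset.mem_biUnion.2 ⟨i, Finset.mem_univ _, Finset.mem_image.2 ⟨x, hx, rfl⟩⟩)
      exact ⟨b ⊗ₜ x.2, by
        change Algebra.TensorProduct.map θ (AlgHom.id R M) (b ⊗ₜ x.2) = _
        rw [Algebra.TensorProduct.map_tmul, show θ b = x.1 from hb]; rfl⟩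
    exact Subalgebra.sum_mem _ hmem
  choose w hw using this
  exact ⟨B, _, _, hB, θ, w, hw⟩

/-- Orthogonal idempotents equalized by two maps descend to an étale stage. -/
theorem exists_stage_idem {E F : Type u} [CommRing E] [Algebra R E] [CommRing F] [Algebra R F] (p q : E →ₐ[R] F)
    (n : ℕ) (e : Fin n → Hens.EtLoc R K ⊗[R] E) (he : ∀ i, IsIdempotentElem (e i))
    (ho : ∀ i j, i ≠ j → e i * e j = 0)
    (hpq : ∀ i, Algebra.TensorProduct.map (AlgHom.id (Hens.EtLoc R K) (Hens.EtLoc R K)) p (e i) =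
      Algebra.TensorProduct.map (AlgHom.id (Hens.EtLoc R K) (Hens.EtLoc R K)) q (e i)) :
    ∃ (B : Type u) (_ : CommRing B) (_ : Algebra R B), Algebra.Etale R B ∧
      ∃ (θ : B →ₐ[R] Hens.EtLoc R K) (w : Fin n → B ⊗[R] E),
        (∀ i, Algebra.TensorProduct.map θ (AlgHom.id R E) (w i) = e i) ∧
        (∀ i, IsIdempotentElem (w i)) ∧ (∀ i j, i ≠ j → w i * w j = 0) ∧
        ∀ i, Algebra.TensorProduct.map (AlgHom.id B B) p (w i) = Algebra.TensorProduct.map (AlgHom.id B B) q (w i) := by
  classical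
  obtain ⟨B, _, _, hB, θ, w, hw⟩ := exists_stage_tensor n e
  let θE := Algebra.TensorProduct.map θ (AlgHom.id R E)
  let θF := Algebra.TensorProduct.map θ (AlgHom.id R F)
  have hsq : ∀ (f : E →ₐ[R] F) (x : B ⊗[R] E), θF (Algebra.TensorProduct.map (AlgHom.id B B) f x) =
      Algebra.TensorProduct.map (AlgHom.id (Hens.EtLoc R K) (Hens.EtLoc R K)) f (θE x) := by
    intro f x
    induction x using TensorProduct.induction_on with
    | zero => simp only [map_zero]
    | tmul b m => simp [θE, θF]
    | add x y hx hy => simp only [map_add, hx, hy]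
  choose s₁ hs₁ h₁ using fun i => exists_smul_eq_zero_of_map_eq_zero θ (z := w i * w i - w i) (by
    rw [tensor_map_rTensor, map_sub, map_mul, hw, (he i).eq, sub_self])
  choose s₂ hs₂ h₂ using fun ij : {ij : Fin n × Fin n // ij.1 ≠ ij.2} =>
    exists_smul_eq_zero_of_map_eq_zero θ (z := w ij.1.1 * w ij.1.2) (by
      rw [tensor_map_rTensor, map_mul, hw, hw, ho _ _ ij.2])
  choose s₃ hs₃ h₃ using fun i => exists_smul_eq_zero_of_map_eq_zero θ (M := F)
    (z := Algebra.TensorProduct.map (AlgHom.id B B) p (w i) - Algebra.TensorProduct.map (AlgHom.id B B) q (w i)) (by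
      rw [tensor_map_rTensor, map_sub, hsq, hsq, hw, hpq, sub_self])
  let s : B := (∏ i, s₁ i) * (∏ ij, s₂ ij) * ∏ i, s₃ i
  have hs : Hens.point R K (θ s) ≠ 0 := by
    simp only [s, map_mul, map_prod]
    exact mul_ne_zero (mul_ne_zero (Finset.prod_ne_zero_iff.2 fun i _ => hs₁ i)
      (Finset.prod_ne_zero_iff.2 fun i _ => hs₂ i)) (Finset.prod_ne_zero_iff.2 fun i _ => hs₃ i)
  have hu : IsUnit (θ s) := isUnit_of_map_unit (Hens.point R K).toRingHom _ (IsUnit.mk0 _ hs)
  let B' := Localization.Away s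
  have : Algebra.Etale B B' := Algebra.Etale.of_isLocalizationAway s
  have : Algebra.Etale R B' := Algebra.Etale.comp R B B'
  let θ' : B' →ₐ[R] Hens.EtLoc R K := Hens.awayExt θ s hu
  let ι : B →ₐ[R] B' := IsScalarTower.toAlgHom R B B'
  let ιE := Algebra.TensorProduct.map ι (AlgHom.id R E)
  let ιF := Algebra.TensorProduct.map ι (AlgHom.id R F)
  have hkill : ∀ {M : Type u} [CommRing M] [Algebra R M] (t : B) (z : B ⊗[R] M), t ∣ s → t • z = 0 →
      Algebra.TensorProduct.map ι (AlgHom.id R M) z = 0 := by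
    intro M _ _ t z htd hz
    have hut : IsUnit (ι t) := isUnit_of_dvd_unit (map_dvd ι htd)
      (IsLocalization.Away.algebraMap_isUnit (S := B') s)
    have e1 : Algebra.TensorProduct.map ι (AlgHom.id R M) (t ⊗ₜ[R] (1 : M)) *
        Algebra.TensorProduct.map ι (AlgHom.id R M) z = 0 := by
      rw [← map_mul]
      have : t • z = t ⊗ₜ[R] (1 : M) * z := by
        clear hz
        induction z using TensorProduct.induction_on with
        | zero => simp
        | tmul b m => simp [TensorProduct.smul_tmul']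
        | add x y hx hy => rw [smul_add, mul_add, hx, hy]
      rw [← this, hz, map_zero]
    rw [Algebra.TensorProduct.map_tmul, AlgHom.id_apply] at e1
    exact (IsUnit.mul_right_eq_zero (hut.map (Algebra.TensorProduct.includeLeft : B' →ₐ[R] B' ⊗[R] M))).1 e1
  have hd1 : ∀ i, s₁ i ∣ s := fun i => ((Finset.dvd_prod_of_mem _ (Finset.mem_univ i)).mul_right _).mul_right _
  have hd2 : ∀ ij, s₂ ij ∣ s := fun i => ((Finset.dvd_prod_of_mem _ (Finset.mem_univ i)).mul_left _).mul_right _
  have hd3 : ∀ i, s₃ i ∣ s := fun i => (Finset.dvd_prod_of_mem _ (Finset.mem_univ i)).mul_left _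
  refine ⟨B', _, _, inferInstance, θ', fun i => ιE (w i), fun i => ?_, fun i => ?_, fun i j hij => ?_, fun i => ?_⟩
  · rw [← hw i, ← AlgHom.comp_apply, ← Algebra.TensorProduct.map_comp, Hens.awayExt_comp, AlgHom.id_comp]
  · have := hkill _ _ (hd1 i) (h₁ i)
    rw [map_sub, map_mul, sub_eq_zero] at this
    exact this
  · have := hkill _ _ (hd2 ⟨(i, j), hij⟩) (h₂ ⟨(i, j), hij⟩)
    rwa [map_mul] at this
  · have h' := hkill _ _ (hd3 i) (h₃ i)
    rw [map_sub, sub_eq_zero] at h'
    have hsq' : ∀ (f : E →ₐ[R] F) (x : B ⊗[R] E), ιF (Algebra.TensorProduct.map (AlgHom.id B B) f x) =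
        Algebra.TensorProduct.map (AlgHom.id B' B') f (ιE x) := by
      intro f x
      induction x using TensorProduct.induction_on with
      | zero => simp only [map_zero]
      | tmul b m => simp [ιE, ιF]
      | add x y hx hy => simp only [map_add, hx, hy]
    rw [← hsq', ← hsq']
    exact h'

/-- The residue field of `EtLoc R K` is separably closed. -/
theorem isSepClosed_residueField_etLoc [IsAlgClosed K] : IsSepClosed (ResidueField (Hens.EtLoc R K)) := by
  refine IsSepClosed.of_exists_root _ fun f hm hi hs => ?_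
  let π : ResidueField (Hens.EtLoc R K) →+* K := IsLocalRing.ResidueField.lift (Hens.point R K).toRingHom
  obtain ⟨F, hF, hFdeg, hFm⟩ :=
    Polynomial.lifts_and_natDegree_eq_and_monic (Polynomial.map_surjective _ residue_surjective f) hm
  classical
  obtain ⟨B, _, _, hB, θ, hθ⟩ := Hens.exists_stage_finset ((Finset.range (F.natDegree + 1)).image F.coeff)
  obtain ⟨G, hG, hGdeg, hGm⟩ := Polynomial.lifts_and_natDegree_eq_and_monic (f := θ.toRingHom) (p := F) (by
    rw [Polynomial.lifts_iff_coeff_lifts]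
    intro k
    by_cases hk : k < F.natDegree + 1
    · exact hθ _ (Finset.mem_image.2 ⟨k, Finset.mem_range.2 hk, rfl⟩)
    · exact ⟨0, by rw [map_zero, Polynomial.coeff_eq_zero_of_natDegree_lt (by omega)]⟩) hFm
  obtain ⟨a, ha⟩ := IsAlgClosed.exists_root (f.map π) (by
    rw [Polynomial.degree_map]
    exact fun h0 => hi.degree_pos.ne' h0)
  let P : StandardEtalePair B := ⟨G, hGm, Polynomial.derivative G, ⟨1, 0, 1, by simp⟩⟩
  let τ₀ : B →ₐ[R] K := (Hens.point R K).comp θ
  letI : Algebra B K := τ₀.toRingHom.toAlgebra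
  haveI : IsScalarTower R B K := .of_algebraMap_eq' τ₀.comp_algebraMap.symm
  have hmap : G.map (algebraMap B K) = f.map π := by
    rw [← hF, Polynomial.map_map, ← hG, Polynomial.map_map]
    rfl
  have hroot : P.HasMap a := by
    constructor
    · rw [Polynomial.aeval_def, ← Polynomial.eval_map, hmap]
      exact ha
    · rw [Polynomial.aeval_def, ← Polynomial.eval_map, ← Polynomial.derivative_map, hmap, isUnit_iff_ne_zero]
      intro h0
      exact (Polynomial.separable_map π |>.2 hs).eval₂_derivative_ne_zero (RingHom.id K) (by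
        simpa [Polynomial.eval₂_id] using ha) (by simpa [Polynomial.eval₂_id] using h0)
  letI : Algebra R P.Ring := ((algebraMap B P.Ring).comp (algebraMap R B)).toAlgebra
  haveI : IsScalarTower R B P.Ring := .of_algebraMap_eq' rfl
  have : Algebra.Etale R P.Ring := Algebra.Etale.comp R B P.Ring
  let τ : P.Ring →ₐ[R] K := (P.lift a hroot).restrictScalars R
  obtain ⟨θ', hθ', -⟩ := Hens.existsUnique_algHom_etLoc τ
  have hθB : θ'.comp (IsScalarTower.toAlgHom R B P.Ring) = θ := Hens.eq_of_point (AlgHom.ext fun b => by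
    change Hens.point R K (θ' (algebraMap B P.Ring b)) = Hens.point R K (θ b)
    rw [← AlgHom.comp_apply (Hens.point R K) θ', hθ']
    exact (P.lift a hroot).commutes b)
  refine ⟨residue _ (θ' P.X), ?_⟩
  rw [← hF, Polynomial.eval_map, ← hG, Polynomial.eval₂_map]
  have h0 : Polynomial.aeval P.X G = 0 := P.hasMap_X.1
  have h1 := congrArg ((residue (Hens.EtLoc R K)).comp θ'.toRingHom) h0
  rw [map_zero, Polynomial.aeval_def, Polynomial.hom_eval₂] at h1
  rw [show (residue (Hens.EtLoc R K)).comp θ.toRingHom =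
      ((residue (Hens.EtLoc R K)).comp θ'.toRingHom).comp (algebraMap B P.Ring) from by
    rw [← hθB]; rfl]
  exact h1

end Stage

end Groth.Agent.SchCover
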