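import Groth.Agent.SchCover.ClopenSpace
import Groth.Agent.SchCover.ConnIdem
import Groth.Agent.AlgSpEN.GeomConnComp

/-!
# Clopen subsets of geometric closed fibres over henselian local rings
-/

universe u

open CategoryTheory CategoryTheory.Limits AlgebraicGeometry Topology IsLocalRing

set_option backward.isDefEq.respectTransparency false

namespace Groth.Agent.SchCover

open Groth.Agent

variable {S : Scheme.{u}} {A : Type u} [CommRing A] [IsLocalRing A] {K : Type u} [Field K] [Algebra A K]
  {h : Spec (CommRingCat.of A) ⟶ S} {P Q : _root_.AlgSp.Sp S}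
  {g : P ⟶ (_root_.AlgSp.yon S).obj (Over.mk h)} {π : Q ⟶ P}
  {b : Q ⟶ (_root_.AlgSp.yon S).obj (AlgSp.specOver h K)}

theorem ker_algebraMap_of_isLocalHom [IsLocalHom (algebraMap A K)] (a : A) :
    a ∈ maximalIdeal A ↔ algebraMap A K a = 0 := by
  rw [mem_maximalIdeal, mem_nonunits_iff]
  refine ⟨fun h' => ?_, fun h' hu => (hu.map (algebraMap A K)).ne_zero h'⟩
  by_contra hne
  exact h' (isUnit_of_map_unit (algebraMap A K) _ (IsUnit.mk0 _ hne))

theorem specMap_apply_eq_closedPoint [IsLocalHom (algebraMap A K)] (k : PrimeSpectrum K) :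
    (Spec.map (CommRingCat.ofHom (algebraMap A K))) k = closedPoint A := by
  apply PrimeSpectrum.ext
  ext a
  change algebraMap A K a ∈ k.asIdeal ↔ a ∈ maximalIdeal A
  rw [ker_algebraMap_of_isLocalHom (K := K), show k.asIdeal = ⊥ from
    (Ideal.eq_bot_or_top k.asIdeal).resolve_right k.isPrime.ne_top, Ideal.mem_bot]

theorem range_geomFibre [IsLocalHom (algebraMap A K)]
    (sq : IsPullback π b g ((_root_.AlgSp.yon S).map (AlgSp.specStr h K))) :
    Set.range (_root_.AlgSp.Points.map π) = closedFib g := by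
  ext x
  constructor
  · rintro ⟨z, rfl⟩
    obtain ⟨k, hk⟩ := (_root_.AlgSp.Points.schemeHomeo (AlgSp.specOver h K)).surjective (_root_.AlgSp.Points.map b z)
    change _root_.AlgSp.Points.toScheme (Over.mk h) (_root_.AlgSp.Points.map g (_root_.AlgSp.Points.map π z)) = _
    rw [← _root_.AlgSp.Points.map_comp, sq.w, _root_.AlgSp.Points.map_comp, ← hk,
      _root_.AlgSp.Points.map_yon_map_apply]
    exact (_root_.AlgSp.Points.toScheme_ofScheme _ _).trans (specMap_apply_eq_closedPoint k)
  · intro hx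
    let k : ↥(AlgSp.specOver h K).left := (⟨⊥, Ideal.isPrime_bot⟩ : PrimeSpectrum K)
    obtain ⟨z, hz, -⟩ := AlgSpB.exists_of_isPullback sq x (_root_.AlgSp.Points.schemeHomeo _ k) (by
      rw [_root_.AlgSp.Points.map_yon_map_apply, ← _root_.AlgSp.Points.ofScheme_toScheme (Over.mk h)
        (_root_.AlgSp.Points.map g x), show _root_.AlgSp.Points.toScheme (Over.mk h) (_root_.AlgSp.Points.map g x) = _
          from hx]
      exact congrArg _ (specMap_apply_eq_closedPoint (A := A) (K := K) k).symm)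
    exact ⟨z, hz⟩

theorem isClosedMap_geomFibre [Algebra.IsIntegral A K]
    (sq : IsPullback π b g ((_root_.AlgSp.yon S).map (AlgSp.specStr h K))) :
    IsClosedMap (_root_.AlgSp.Points.map π) := by
  exact AlgSp.isClosedMap_map_of_repWith (AlgSp.repWith_mono
    (fun g (_ : IsIntegralHom g) => (inferInstance : UniversallyClosed g))
    (MorphismProperty.of_isPullback sq.flip ((_root_.AlgSp.repWith_yon_map_iff @IsIntegralHom _).2
      (IsIntegralHom.SpecMap_iff.2 (algebraMap_isIntegral_iff.2 ‹_›)))))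

theorem isPreconnected_fibre_geomFibre [IsLocalHom (algebraMap A K)] [IsSepClosed (ResidueField A)]
    (sq : IsPullback π b g ((_root_.AlgSp.yon S).map (AlgSp.specStr h K))) (x : _root_.AlgSp.Points P)
    (hx : x ∈ closedFib g) : IsPreconnected (_root_.AlgSp.Points.map π ⁻¹' {x}) := by
  obtain ⟨p, rfl⟩ := _root_.AlgSp.Points.mk_surjective x
  obtain ⟨v, hv⟩ := (_root_.AlgSp.yon S).map_surjective (p.toHom ≫ g)
  let m := AlgSp.specStr h K
  have sqR := (IsPullback.of_hasPullback v m).map (_root_.AlgSp.yon S)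
  rw [hv] at sqR
  obtain ⟨l, hl₁, hl₂⟩ := sq.exists_lift ((_root_.AlgSp.yon S).map (pullback.fst v m) ≫ p.toHom)
    ((_root_.AlgSp.yon S).map (pullback.snd v m)) (by rw [Category.assoc]; exact sqR.w)
  have sql : IsPullback ((_root_.AlgSp.yon S).map (pullback.fst v m)) l p.toHom π :=
    IsPullback.of_bot (by rw [hl₂]; exact sqR) hl₁.symm sq
  have key := AlgSp.preimage_image_map sql Set.univ
  simp only [Set.preimage_univ, Set.image_univ] at key
  let s : ↥p.pt.left := (⟨⊥, Ideal.isPrime_bot⟩ : PrimeSpectrum p.K)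
  have hpt : ∀ s' : ↥p.pt.left, _root_.AlgSp.Points.map p.toHom (_root_.AlgSp.Points.ofScheme p.pt s') =
      _root_.AlgSp.Points.mk p := fun s' => by
    rw [← _root_.AlgSp.Points.ofPt_eq_map_ofScheme]
    exact _root_.AlgSp.Points.ofPt_toHom p _
  have hrange : Set.range (_root_.AlgSp.Points.map p.toHom) = {_root_.AlgSp.Points.mk p} := by
    ext y
    constructor
    · rintro ⟨z, rfl⟩
      rw [Set.mem_singleton_iff, ← _root_.AlgSp.Points.ofScheme_toScheme p.pt z, hpt]
    · rintro rfl
      exact ⟨_, hpt s⟩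
  rw [hrange] at key
  rw [key]
  have hvs : v.left s = closedPoint A := by
    rw [← _root_.AlgSp.Points.toScheme_ofScheme (Over.mk h) (v.left s)]
    refine Eq.trans (congrArg _ ?_) hx
    rw [← hpt s, ← _root_.AlgSp.Points.map_comp, ← hv]
    exact (_root_.AlgSp.Points.map_yon_map_apply v s).symm
  -- factor through the residue field
  let j : Spec (CommRingCat.of (ResidueField A)) ⟶ Spec (CommRingCat.of A) :=
    Spec.map (CommRingCat.ofHom (residue A))
  have : Mono j := by
    have : IsClosedImmersion j := IsClosedImmersion.spec_of_surjective _ residue_surjective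
    infer_instance
  obtain ⟨φ, hφ⟩ := Spec.map_surjective (v.left : Spec (CommRingCat.of p.K) ⟶ Spec (CommRingCat.of A))
  have hφm : IsLocalHom φ.hom := by
    constructor
    intro a ha
    by_contra hu
    have h1 : a ∈ (v.left s : PrimeSpectrum A).asIdeal := by rw [hvs]; exact hu
    rw [← hφ] at h1
    exact ha.ne_zero h1
  let ψ : ResidueField A →+* p.K := ResidueField.lift φ.hom
  let v' : Spec (CommRingCat.of p.K) ⟶ Spec (CommRingCat.of (ResidueField A)) := Spec.map (CommRingCat.ofHom ψ)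
  letI : Algebra (ResidueField A) K := (ResidueField.lift (algebraMap A K)).toAlgebra
  let m' : Spec (CommRingCat.of K) ⟶ Spec (CommRingCat.of (ResidueField A)) :=
    Spec.map (CommRingCat.ofHom (algebraMap (ResidueField A) K))
  have e1 : v' ≫ j = v.left := by
    rw [← Spec.map_comp, ← hφ]; rfl
  have e2 : m' ≫ j = m.left := by
    rw [← Spec.map_comp]; rfl
  have sS : IsPullback (pullback.fst v m).left (pullback.snd v m).left v.left m.left :=
    (IsPullback.of_hasPullback v m).map (Over.forget S)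
  have hw : (pullback.fst v m).left ≫ v' = (pullback.snd v m).left ≫ m' := by
    rw [← cancel_mono j, Category.assoc, Category.assoc, e1, e2, sS.w]
  have sS' : IsPullback (pullback.fst v m).left (pullback.snd v m).left v' m' :=
    IsPullback.mk' hw (fun _ _ _ h1 h2 => sS.hom_ext h1 h2) fun T a c e =>
      ⟨sS.lift a c (by rw [← e1, ← e2, reassoc_of% e]), sS.lift_fst _ _ _, sS.lift_snd _ _ _⟩
  have hgc : GeometricallyConnected m' := FBase.BC.geometricallyConnected_specMap_of_isSepClosed
  have : ConnectedSpace ↥(pullback v m).left := hgc.geometrically_connectedSpace (K := p.K) v' _ _ sS'.flip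
  have : ConnectedSpace (_root_.AlgSp.Points ((_root_.AlgSp.yon S).obj (pullback v m))) :=
    (_root_.AlgSp.Points.schemeHomeo (pullback v m)).surjective.connectedSpace
      (_root_.AlgSp.Points.schemeHomeo _).continuous
  exact (isConnected_range (_root_.AlgSp.Points.continuous_map l)).isPreconnected

/-- Disjoint nonempty clopen subsets of the geometric closed fibre extend to disjoint clopen subsets meeting the
closed fibre. -/
theorem exists_clopens_lift [HenselianLocalRing A] [IsLocalHom (algebraMap A K)] [Algebra.IsIntegral A K]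
    [IsSepClosed (ResidueField A)] (hP : _root_.AlgSp.IsAlgSpace P) (hsep : _root_.AlgSp.IsSeparatedMor g)
    (hqc : _root_.AlgSp.IsQuasiCompactMor g) (huc : _root_.AlgSp.IsUnivClosedMor g)
    (sq : IsPullback π b g ((_root_.AlgSp.yon S).map (AlgSp.specStr h K))) {n : ℕ}
    (V : Fin n → Set (_root_.AlgSp.Points Q)) (hV : ∀ i, IsClopen (V i)) (hne : ∀ i, (V i).Nonempty)
    (hd : ∀ i j, i ≠ j → Disjoint (V i) (V j)) :
    ∃ U : Fin n → Set (_root_.AlgSp.Points P), (∀ i, IsClopen (U i)) ∧
      (∀ i, (U i ∩ closedFib g).Nonempty) ∧ ∀ i j, i ≠ j → Disjoint (U i) (U j) := by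
  let πm := _root_.AlgSp.Points.map π
  have hcl : IsClosedMap πm := isClosedMap_geomFibre sq
  have hrange : Set.range πm = closedFib g := range_geomFibre sq
  have hsat : ∀ i z z', πm z = πm z' → z ∈ V i → z' ∈ V i := fun i z z' e hz =>
    (isPreconnected_fibre_geomFibre sq (πm z) (hrange ▸ Set.mem_range_self z)).subset_isClopen (hV i)
      ⟨z, rfl, hz⟩ (show z' ∈ πm ⁻¹' {πm z} from e.symm)
  have hdiff : ∀ i, closedFib g \ πm '' V i = πm '' (V i)ᶜ := fun i => by
    rw [← hrange]
    ext x
    constructor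
    · rintro ⟨⟨z, rfl⟩, hx⟩
      exact ⟨z, fun hz => hx ⟨z, hz, rfl⟩, rfl⟩
    · rintro ⟨z, hz, rfl⟩
      exact ⟨⟨z, rfl⟩, fun ⟨w, hw, e⟩ => hz (hsat i w z e hw)⟩
  choose U hU hUV using fun i => exists_clopen_space hP hsep hqc huc (V := πm '' V i)
    (hrange ▸ Set.image_subset_range _ _) (hcl _ (hV i).1) (by rw [hdiff]; exact hcl _ (hV i).compl.1)
  refine ⟨U, hU, fun i => by rw [hUV]; exact (hne i).image _, fun i j hij => ?_⟩
  have hgc : IsClosedMap (_root_.AlgSp.Points.map g) :=
    huc (_root_.AlgSp.IsAlgSpace.yon_obj _) (𝟙 _) (𝟙 _) g IsPullback.of_id_fst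
  rw [Set.disjoint_iff_inter_eq_empty]
  refine eq_empty_of_isClopen hgc ((hU i).inter (hU j)) ?_
  rw [Set.eq_empty_iff_forall_notMem]
  rintro x ⟨⟨h1, h2⟩, h3⟩
  have h1' : x ∈ πm '' V i := hUV i ▸ ⟨h1, h3⟩
  have h2' : x ∈ πm '' V j := hUV j ▸ ⟨h2, h3⟩
  obtain ⟨z, hz, rfl⟩ := h1'
  obtain ⟨w, hw, e⟩ := h2'
  exact (hd i j hij).ne_of_mem hz (hsat j w z e hw) rfl

end Groth.Agent.SchCover
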