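import Groth.Agent.SchCover.Sch
import Groth.Agent.AlgSp.NormUniv
import Groth.Agent.AlgSpCov.EtaleMono
import Groth.Agent.AlgSpCov.FpqcDiag

/-!
# Normalizations split over etale charts are schemes near the charts
-/

universe u

open CategoryTheory CategoryTheory.Limits AlgebraicGeometry Opposite

set_option backward.isDefEq.respectTransparency false

namespace Groth.Agent.SchCover

open Groth.Agent _root_.AlgSp

variable {S : Scheme.{u}}

/-- The source of a normalization is dense in it. -/
theorem isDominant_of_relNorm {D W U : Over S} {d : D ⟶ U} {i : W ⟶ U} {d' : D ⟶ W}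
    (hi : IsIntegralHom i.left) [QuasiCompact d'.left]
    (hn : IsRelNormalization ((yon S).map d) ((yon S).map i) ((yon S).map d')) : IsDominant d'.left := by
  refine isDominant_of_forall_split d'.left fun Z ι hι ⟨g', hg'⟩ => ?_
  let Z' : Over S := Over.mk (ι ≫ W.hom)
  let z : Z' ⟶ W := Over.homMk ι rfl
  let g : D ⟶ Z' := Over.homMk g' (by
    change g' ≫ ι ≫ W.hom = D.hom
    rw [reassoc_of% hg']; exact Over.w d')
  have hgz : g ≫ z = d' := Over.OverMorphism.ext hg'
  have hdd : d' ≫ i = d := (yon S).map_injective (by rw [Functor.map_comp]; exact hn.1)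
  have hzi : AlgSp.IsIntegralMor ((yon S).map (z ≫ i)) := (AlgSpD.isIntegralMor_iff _).2
    ((repWith_yon_map_iff _ _).2 (show IsIntegralHom (ι ≫ i.left) from inferInstance))
  obtain ⟨h, ⟨hh1, hh2⟩, -⟩ := hn.2.2 (IsAlgSpace.yon_obj Z') ((yon S).map (z ≫ i)) ((yon S).map g) hzi (by
    rw [← Functor.map_comp, ← Category.assoc, hgz, hdd])
  obtain ⟨h₀, rfl⟩ := (yon S).map_surjective h
  have key := Groth.Agent.AlgSp.relNorm_hom_ext hn (IsAlgSpace.yon_obj W)
    (π := (yon S).map i) ((AlgSpD.isIntegralMor_iff _).2 ((repWith_yon_map_iff _ _).2 hi))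
    (h₁ := (yon S).map h₀ ≫ (yon S).map z) (h₂ := 𝟙 _)
    (by rw [Category.assoc]; exact (congrArg _ ((yon S).map_comp z i)).symm.trans hh2) (by rw [Category.id_comp])
    (by rw [← Category.assoc, hh1, ← Functor.map_comp, hgz, Category.comp_id])
  rw [← Functor.map_comp, ← (yon S).map_id] at key
  exact ⟨h₀.left, congrArg (fun m : W ⟶ W => m.left) ((yon S).map_injective key)⟩

/-- A clopen subset of the source of a normalization extends to the normalization. -/
theorem exists_clopen_of_relNorm {D W U : Over S} {d : D ⟶ U} {i : W ⟶ U} {d' : D ⟶ W}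
    (hn : IsRelNormalization ((yon S).map d) ((yon S).map i) ((yon S).map d'))
    (N : D.left.Opens) (hN : IsClosed (N : Set ↥D.left)) :
    ∃ M : W.left.Opens, IsClosed (M : Set ↥W.left) ∧ d'.left ⁻¹' (M : Set ↥W.left) = (N : Set ↥D.left) := by
  obtain ⟨g', hg1, hg2⟩ := exists_clopen_map d.left N hN
  let Z : Over S := Over.mk (coprod.desc U.hom U.hom)
  let π : Z ⟶ U := Over.homMk (coprod.desc (𝟙 U.left) (𝟙 U.left)) (by
    change coprod.desc (𝟙 U.left) (𝟙 U.left) ≫ U.hom = coprod.desc U.hom U.hom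
    ext <;> simp)
  let g : D ⟶ Z := Over.homMk g' (by
    change g' ≫ coprod.desc U.hom U.hom = D.hom
    rw [← Over.w d, ← hg1, Category.assoc]
    congr 1
    ext <;> simp)
  have hgπ : g ≫ π = d := Over.OverMorphism.ext hg1
  have hπ : AlgSp.IsIntegralMor ((yon S).map π) := (AlgSpD.isIntegralMor_iff _).2
    ((repWith_yon_map_iff _ _).2 (show IsIntegralHom (coprod.desc (𝟙 U.left) (𝟙 U.left)) from inferInstance))
  obtain ⟨h, ⟨hh1, -⟩, -⟩ := hn.2.2 (IsAlgSpace.yon_obj Z) ((yon S).map π) ((yon S).map g) hπ (by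
    rw [← Functor.map_comp, hgπ])
  obtain ⟨h₀, rfl⟩ := (yon S).map_surjective h
  have hh : d' ≫ h₀ = g := (yon S).map_injective (by rw [Functor.map_comp]; exact hh1)
  refine ⟨h₀.left ⁻¹ᵁ (coprod.inl : U.left ⟶ U.left ⨿ U.left).opensRange, ?_, ?_⟩
  · have h1 : IsClosed (Set.range (coprod.inl : U.left ⟶ U.left ⨿ U.left)) := by
      refine isOpen_compl_iff.1 ?_
      rw [(isCompl_range_inl_inr U.left U.left).compl_eq]
      exact (coprod.inr : U.left ⟶ U.left ⨿ U.left).isOpenEmbedding.isOpen_range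
    exact h1.preimage h₀.left.continuous
  rw [← hg2, ← show d'.left ≫ h₀.left = g' from congrArg (fun m : D ⟶ Z => m.left) hh]
  rfl

/-- The point criterion: near a point of a normalization over a split etale chart, the normalization is
an open subscheme mapping to the chart. -/
theorem exists_scheme_nhd {X X' : AlgSp.Sp S} (hX' : IsAlgSpace X') {T U : Over S}
    [IsAffine U.left] (f : (yon S).obj T ⟶ X) (ν : X' ⟶ X) (f' : (yon S).obj T ⟶ X')
    (hν : Groth.Agent.AlgSp.IsSmoothNorm f ν f') (b : (yon S).obj U ⟶ X) (hb : RepWith @Etale b)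
    {D : Over S} (d : D ⟶ U) (dT : D ⟶ T) (sD : IsPullback ((yon S).map dT) ((yon S).map d) f b)
    [CompactSpace ↥D.left]
    (hsplit : ∀ z : ↥D.left, ∃ N : D.left.Opens, IsClosed (N : Set ↥D.left) ∧ z ∈ N ∧ Mono (N.ι ≫ dT.left))
    (x : AlgSp.Points X') (hx : AlgSp.Points.map ν x ∈ Set.range (AlgSp.Points.ofPt b)) :
    ∃ (Y : Over S) (j : (yon S).obj Y ⟶ X') (c : Y ⟶ U), RepWith @IsOpenImmersion j ∧
      x ∈ Set.range (AlgSp.Points.ofPt j) ∧ j ≫ ν = (yon S).map c ≫ b := by
  obtain ⟨W, i, fst, sX, hW, hi⟩ := hν.2.1 ‹IsAffine U.left› b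
  have hwD : ((yon S).map dT ≫ f') ≫ ν = (yon S).map d ≫ b := by rw [Category.assoc, hν.1, sD.w]
  obtain ⟨d', hd'⟩ := (yon S).map_surjective (sX.lift ((yon S).map dT ≫ f') ((yon S).map d) hwD)
  have w1 : (yon S).map d' ≫ (yon S).map i = (yon S).map d := by rw [hd', sX.lift_snd]
  have w2 : (yon S).map d' ≫ fst = (yon S).map dT ≫ f' := by rw [hd', sX.lift_fst]
  have hn : IsRelNormalization ((yon S).map d) ((yon S).map i) ((yon S).map d') :=
    hν.2.2 U ‹IsAffine U.left› b (Groth.Agent.AlgSp.locP_smooth_of_etale hb) _ _ _ _ _ sD sX w1 w2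
  have : QuasiCompact d'.left := (quasiCompact_iff_compactSpace d'.left).2 ‹CompactSpace ↥D.left›
  have hdom := isDominant_of_relNorm hi hn
  have hfst : RepWith @Etale fst := MorphismProperty.of_isPullback sX.flip hb
  -- the relation of the chart of the normalization
  obtain ⟨R, p, q, sR⟩ := AlgSpB.exists_pullback_yon hfst.1 fst
  have hpe : Etale p.left := hfst.2 _ _ _ sR.flip
  have hqe : Etale q.left := hfst.2 _ _ _ sR
  obtain ⟨δ, hδ⟩ := (yon S).map_surjective (sR.lift (𝟙 _) (𝟙 _) rfl)
  have hδp : δ ≫ p = 𝟙 W := (yon S).map_injective (by rw [Functor.map_comp, hδ, sR.lift_fst, (yon S).map_id])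
  have hδq : δ ≫ q = 𝟙 W := (yon S).map_injective (by rw [Functor.map_comp, hδ, sR.lift_snd, (yon S).map_id])
  have hsep : R.left.IsSeparated := by
    have hw : p.left ≫ W.hom = q.left ≫ W.hom := by rw [Over.w p, Over.w q]
    have : Mono (pullback.lift p.left q.left hw : R.left ⟶ pullback W.hom W.hom) := by
      refine ⟨fun {A} g1 g2 e => ?_⟩
      let A' : Over S := Over.mk (g1 ≫ R.hom)
      have e1 : g1 ≫ p.left = g2 ≫ p.left := by
        simpa only [Category.assoc, pullback.lift_fst] using congrArg (· ≫ pullback.fst W.hom W.hom) e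
      have e2 : g1 ≫ q.left = g2 ≫ q.left := by
        simpa only [Category.assoc, pullback.lift_snd] using congrArg (· ≫ pullback.snd W.hom W.hom) e
      let a1 : A' ⟶ R := Over.homMk g1 rfl
      let a2 : A' ⟶ R := Over.homMk g2 (by
        change g2 ≫ R.hom = g1 ≫ R.hom
        rw [← Over.w p, reassoc_of% e1])
      have : a1 = a2 := (yon S).map_injective (sR.hom_ext
        (by simp only [← Functor.map_comp]; exact congrArg _ (Over.OverMorphism.ext e1))
        (by simp only [← Functor.map_comp]; exact congrArg _ (Over.OverMorphism.ext e2)))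
      exact congrArg (fun m : A' ⟶ R => m.left) this
    have : IsSeparated p.left := by
      rw [← pullback.lift_fst p.left q.left hw]; infer_instance
    exact Scheme.IsSeparated.mk (by
      rw [terminal.hom_ext (terminal.from R.left) (p.left ≫ terminal.from W.left)]; infer_instance)
  have : IsClosedImmersion δ.left := by
    have : IsClosedImmersion (δ.left ≫ p.left) := by
      rw [← Over.comp_left, hδp, Over.id_left]; infer_instance
    exact IsClosedImmersion.of_comp δ.left p.left
  have : IsOpenImmersion δ.left := by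
    have : Etale (δ.left ≫ p.left) := by
      rw [← Over.comp_left, hδp, Over.id_left]; infer_instance
    have : Etale δ.left := MorphismProperty.of_postcomp @Etale (W' := @Etale) δ.left p.left hpe this
    exact .of_flat_of_mono δ.left
  -- a chart point
  obtain ⟨u, hu⟩ := hx
  obtain ⟨w₀, hw₀, -⟩ := AlgSpB.exists_of_isPullback sX x (AlgSp.Points.ofScheme U u)
    (hu.symm.trans (AlgSp.Points.ofPt_eq_map_ofScheme _ _))
  rw [← AlgSp.Points.ofScheme_toScheme W w₀, ← AlgSp.Points.ofPt_eq_map_ofScheme] at hw₀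
  let w := AlgSp.Points.toScheme W w₀
  -- the clopen pieces
  choose N hNc hzN hNm using hsplit
  choose M hMc hM using fun z => exists_clopen_of_relNorm hn (N z) (hNc z)
  obtain ⟨s, hs⟩ := isCompact_univ.elim_finite_subcover (fun z => (N z : Set ↥D.left)) (fun z => (N z).2)
    (fun z _ => Set.mem_iUnion.2 ⟨z, hzN z⟩)
  obtain ⟨z, hz⟩ : ∃ z, w ∈ M z := by
    have h1 : w ∈ closure (⋃ z ∈ s, (M z : Set ↥W.left)) := by
      refine closure_mono ?_ (hdom.denseRange w)
      rintro _ ⟨t, rfl⟩
      obtain ⟨z, hz, ht⟩ := Set.mem_iUnion₂.1 (hs (Set.mem_univ t))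
      refine Set.mem_iUnion₂.2 ⟨z, hz, ?_⟩
      rw [← hM z] at ht; exact ht
    rw [(isClosed_biUnion_finset fun z _ => hMc z).closure_eq] at h1
    obtain ⟨z, -, hz⟩ := Set.mem_iUnion₂.1 h1
    exact ⟨z, hz⟩
  -- the relation on the piece is the diagonal
  have sT : IsPullback ((yon S).map dT) ((yon S).map d') f' fst :=
    IsPullback.of_bot (by rw [w1, hν.1]; exact sD) w2.symm sX
  have hO : ∀ o : ↥R.left, p.left o ∈ M z → q.left o ∈ M z → o ∈ Set.range δ.left := by
    intro o₀ hp₀ hq₀
    by_contra hδ₀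
    let O' : R.left.Opens := ⟨(p.left ⁻¹' (M z : Set ↥W.left) ∩ q.left ⁻¹' (M z : Set ↥W.left)) ∩
        (Set.range δ.left)ᶜ, (((M z).2.preimage p.left.continuous).inter ((M z).2.preimage q.left.continuous)).inter
        δ.left.isClosedEmbedding.isClosed_range.isOpen_compl⟩
    obtain ⟨t, o, ho, ht⟩ := hdom.denseRange.exists_mem_open
      (p.left.isOpenMap _ O'.2) ⟨_, o₀, ⟨⟨hp₀, hq₀⟩, hδ₀⟩, rfl⟩
    obtain ⟨⟨hop, hoq⟩, hoδ⟩ := ho
    obtain ⟨e, he1, he2⟩ := Scheme.Pullback.exists_preimage_pullback (f := d'.left) (g := p.left) t o ht.symm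
    let E₁ := pullback d'.left p.left
    let κ := Spec (E₁.residueField e)
    let E : Over S := Over.mk (E₁.fromSpecResidueField e ≫ pullback.snd d'.left p.left ≫ R.hom)
    let β : E ⟶ R := Over.homMk (E₁.fromSpecResidueField e ≫ pullback.snd d'.left p.left) (Category.assoc _ _ _)
    let α : E ⟶ D := Over.homMk (E₁.fromSpecResidueField e ≫ pullback.fst d'.left p.left) (by
      rw [← Over.w d', Category.assoc, pullback.condition_assoc, Over.w p]
      rfl)
    have hαβ : α ≫ d' = β ≫ p := Over.OverMorphism.ext (by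
      change (_ ≫ _) ≫ _ = (_ ≫ _) ≫ _
      rw [Category.assoc, Category.assoc, pullback.condition])
    obtain ⟨γ, hγ⟩ := (yon S).map_surjective (sT.lift ((yon S).map (α ≫ dT)) ((yon S).map (β ≫ q)) (by
      rw [Functor.map_comp, Functor.map_comp, Category.assoc, Category.assoc, ← w2, ← Functor.map_comp_assoc, hαβ,
        Functor.map_comp_assoc, sR.w]))
    have hγ1 : γ ≫ dT = α ≫ dT := (yon S).map_injective (by rw [Functor.map_comp, hγ, sT.lift_fst])
    have hγ2 : γ ≫ d' = β ≫ q := (yon S).map_injective (by rw [Functor.map_comp, hγ, sT.lift_snd])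
    have hβ : ∀ κ₀ : ↥E.left, β.left κ₀ = o := fun κ₀ => by
      change pullback.snd d'.left p.left (E₁.fromSpecResidueField e κ₀) = o
      rw [Scheme.fromSpecResidueField_apply]; exact he2
    have hα : ∀ κ₀ : ↥E.left, α.left κ₀ ∈ N z := fun κ₀ => by
      show α.left κ₀ ∈ (N z : Set ↥D.left)
      rw [← hM z]
      show (α.left ≫ d'.left) κ₀ ∈ M z
      rw [← Over.comp_left, hαβ, Over.comp_left, Scheme.Hom.comp_apply, hβ]
      exact hop
    have hγN : ∀ κ₀ : ↥E.left, γ.left κ₀ ∈ N z := fun κ₀ => by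
      show γ.left κ₀ ∈ (N z : Set ↥D.left)
      rw [← hM z]
      show (γ.left ≫ d'.left) κ₀ ∈ M z
      rw [← Over.comp_left, hγ2, Over.comp_left, Scheme.Hom.comp_apply, hβ]
      exact hoq
    have hαγ : α = γ := by
      have ea : IsOpenImmersion.lift (N z).ι α.left (by
          rw [Scheme.Opens.range_ι]; rintro _ ⟨κ₀, rfl⟩; exact hα κ₀) =
          IsOpenImmersion.lift (N z).ι γ.left (by
          rw [Scheme.Opens.range_ι]; rintro _ ⟨κ₀, rfl⟩; exact hγN κ₀) := by
        have := hNm z
        rw [← cancel_mono ((N z).ι ≫ dT.left), IsOpenImmersion.lift_fac_assoc, IsOpenImmersion.lift_fac_assoc,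
          ← Over.comp_left, ← Over.comp_left, hγ1]
      have := congrArg (· ≫ (N z).ι) ea
      simp only [IsOpenImmersion.lift_fac] at this
      exact Over.OverMorphism.ext this
    have hβδ : β = (β ≫ p) ≫ δ := (yon S).map_injective (sR.hom_ext
      (by simp only [← Functor.map_comp, Category.assoc, hδp, Category.comp_id])
      (by simp only [← Functor.map_comp, Category.assoc, hδq, Category.comp_id]
          rw [← hγ2, ← hαγ, hαβ]))
    refine hoδ ⟨(β ≫ p).left (IsLocalRing.closedPoint (E₁.residueField e)), ?_⟩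
    rw [← Scheme.Hom.comp_apply, ← Over.comp_left, ← hβδ]
    exact hβ _
  -- the piece
  let Y : Over S := Over.mk ((M z).ι ≫ W.hom)
  let jM : Y ⟶ W := Over.homMk (M z).ι rfl
  have hjM : IsOpenImmersion jM.left := inferInstanceAs (IsOpenImmersion (M z).ι)
  have hje : RepWith @Etale ((yon S).map jM ≫ fst) := AlgSpB.repWith_etale_map_comp jM hfst
  have : Mono ((yon S).map jM ≫ fst) := by
    obtain ⟨P, p', q', sP⟩ := AlgSpB.exists_pullback_yon hje.1 ((yon S).map jM ≫ fst)
    obtain ⟨r, hr⟩ := (yon S).map_surjective (sR.lift ((yon S).map (p' ≫ jM)) ((yon S).map (q' ≫ jM)) (by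
      simpa only [Functor.map_comp, Category.assoc] using sP.w))
    have hr1 : r ≫ p = p' ≫ jM := (yon S).map_injective (by rw [Functor.map_comp, hr, sR.lift_fst])
    have hr2 : r ≫ q = q' ≫ jM := (yon S).map_injective (by rw [Functor.map_comp, hr, sR.lift_snd])
    have hrange : Set.range r.left ⊆ Set.range δ.left := by
      rintro _ ⟨y, rfl⟩
      refine hO _ ?_ ?_
      · rw [← Scheme.Hom.comp_apply, ← Over.comp_left, hr1, Over.comp_left, Scheme.Hom.comp_apply]
        exact (p'.left y).2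
      · rw [← Scheme.Hom.comp_apply, ← Over.comp_left, hr2, Over.comp_left, Scheme.Hom.comp_apply]
        exact (q'.left y).2
    have epq : p' = q' := by
      have hl := IsOpenImmersion.lift_fac δ.left r.left hrange
      apply Over.OverMorphism.ext
      rw [← cancel_mono jM.left, ← Over.comp_left, ← Over.comp_left, ← hr1, ← hr2, Over.comp_left,
        Over.comp_left, ← hl, Category.assoc, Category.assoc, ← Over.comp_left, ← Over.comp_left, hδp, hδq]
    refine ⟨fun g1 g2 e => ?_⟩
    exact ((sP.lift_fst g1 g2 e).symm.trans (congrArg (fun m => sP.lift g1 g2 e ≫ (yon S).map m) epq)).trans (sP.lift_snd g1 g2 e)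
  refine ⟨Y, (yon S).map jM ≫ fst, jM ≫ i, AlgSpCov.repWith_isOpenImmersion_of_mono_isEtaleMor
    (IsAlgSpace.yon_obj Y) hX' _ (AlgSpCov.isEtaleMor_of_repWith hje), ?_, ?_⟩
  · exact ⟨(⟨w, hz⟩ : ↥(M z)), (AlgSpB.ofPt_map_comp jM fst _).trans hw₀⟩
  · rw [Category.assoc, sX.w, Functor.map_comp, Category.assoc]

end Groth.Agent.SchCover
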