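import Mathlib

/-!
# Scheme lemmas for scheme covers of algebraic spaces
-/

universe u

set_option backward.isDefEq.respectTransparency false

open CategoryTheory CategoryTheory.Limits AlgebraicGeometry

namespace Groth.Agent.SchCover

/-- A clopen subset gives a map into two copies of a target. -/
theorem exists_clopen_map {D U : Scheme.{u}} (d : D ⟶ U) (N : D.Opens) (hN : IsClosed (N : Set D)) :
    ∃ g : D ⟶ U ⨿ U, g ≫ coprod.desc (𝟙 U) (𝟙 U) = d ∧
      g ⁻¹' Set.range (coprod.inl : U ⟶ U ⨿ U) = (N : Set D) := by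
  let M : D.Opens := ⟨(N : Set D)ᶜ, hN.isOpen_compl⟩
  have hc : IsCompl N.ι.opensRange M.ι.opensRange := by
    rw [Scheme.Opens.opensRange_ι, Scheme.Opens.opensRange_ι]
    constructor
    · rw [disjoint_iff]; ext x; simp [M]
    · rw [codisjoint_iff]; ext x; simp [M, em]
  obtain ⟨hcol⟩ := nonempty_isColimit_binaryCofanMk_of_isCompl N.ι M.ι hc
  obtain ⟨g, hg1, hg2⟩ : ∃ g : D ⟶ U ⨿ U, N.ι ≫ g = (N.ι ≫ d) ≫ coprod.inl ∧
      M.ι ≫ g = (M.ι ≫ d) ≫ coprod.inr := by
    obtain ⟨g, h1, h2⟩ := BinaryCofan.IsColimit.desc' hcol ((N.ι ≫ d) ≫ coprod.inl) ((M.ι ≫ d) ≫ coprod.inr)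
    exact ⟨g, h1, h2⟩
  refine ⟨g, BinaryCofan.IsColimit.hom_ext hcol ?_ ?_, ?_⟩
  · change N.ι ≫ g ≫ _ = N.ι ≫ d
    rw [reassoc_of% hg1, coprod.inl_desc, Category.comp_id]
  · change M.ι ≫ g ≫ _ = M.ι ≫ d
    rw [reassoc_of% hg2, coprod.inr_desc, Category.comp_id]
  · ext x
    constructor
    · intro hx
      by_contra hxN
      obtain ⟨t, ht⟩ := hx
      have : g x ∈ Set.range (coprod.inr : U ⟶ U ⨿ U) := by
        refine ⟨(M.ι ≫ d) ⟨x, hxN⟩, ?_⟩
        rw [← Scheme.Hom.comp_apply, ← hg2, Scheme.Hom.comp_apply]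
        rfl
      exact Set.disjoint_left.1 (isCompl_range_inl_inr U U).1 ⟨t, ht⟩ this
    · intro hx
      refine ⟨(N.ι ≫ d) ⟨x, hx⟩, ?_⟩
      rw [← Scheme.Hom.comp_apply, ← hg1, Scheme.Hom.comp_apply]
      rfl

/-- If every closed subscheme through which `g` factors splits `W`, the map `g` is dominant. -/
theorem isDominant_of_forall_split {D W : Scheme.{u}} (g : D ⟶ W) [QuasiCompact g]
    (h : ∀ (Z : Scheme.{u}) (ι : Z ⟶ W), IsClosedImmersion ι → (∃ g' : D ⟶ Z, g' ≫ ι = g) →
      ∃ s : W ⟶ Z, s ≫ ι = 𝟙 W) : IsDominant g := by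
  obtain ⟨s, hs⟩ := h g.image g.imageι inferInstance ⟨g.toImage, g.toImage_imageι⟩
  have : Surjective g.imageι := ⟨fun w => ⟨s w, by rw [← Scheme.Hom.comp_apply, hs]; rfl⟩⟩
  rw [← g.toImage_imageι]
  infer_instance

/-- A residue field extension along an etale map over a separably closed field is trivial: two maps
from a field lying over the same point of an etale scheme agree once their composites agree. -/
theorem eq_of_etale_of_isAlgClosed {D T : Scheme.{u}} (d : D ⟶ T) (t : D) [IsAlgClosed (T.residueField (d t))]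
    (hfin : (d.residueFieldMap t).hom.Finite) {K : Type u} [Field K]
    (a b : Spec (CommRingCat.of K) ⟶ D) (ha : ∀ z, a z = t) (hb : ∀ z, b z = t) (e : a ≫ d = b ≫ d) :
    a = b := by
  have hsurj : Function.Surjective (d.residueFieldMap t).hom := by
    algebraize [(d.residueFieldMap t).hom]
    have : Module.Finite (T.residueField (d t)) (D.residueField t) := hfin
    exact IsAlgClosed.algebraMap_bijective_of_isIntegral.2
  have : IsIso (d.residueFieldMap t) := by
    rw [ConcreteCategory.isIso_iff_bijective]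
    exact ⟨(d.residueFieldMap t).hom.injective, hsurj⟩
  have hda : Mono (D.fromSpecResidueField t ≫ d) := by
    rw [← Scheme.Hom.SpecMap_residueFieldMap_fromSpecResidueField]
    infer_instance
  obtain ⟨⟨t₁, φ⟩, rfl⟩ := (Scheme.SpecToEquivOfField K D).symm.surjective a
  obtain ⟨⟨t₂, ψ⟩, rfl⟩ := (Scheme.SpecToEquivOfField K D).symm.surjective b
  simp only [Scheme.SpecToEquivOfField, Scheme.descResidueField, Equiv.coe_fn_symm_mk] at ha hb e ⊢
  obtain rfl : t₁ = t := by
    have := ha (IsLocalRing.closedPoint K)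
    rw [Scheme.Hom.comp_apply, Scheme.fromSpecResidueField_apply] at this
    exact this
  obtain rfl : t₂ = t₁ := by
    have := hb (IsLocalRing.closedPoint K)
    rw [Scheme.Hom.comp_apply, Scheme.fromSpecResidueField_apply] at this
    exact this
  rw [Category.assoc, Category.assoc, cancel_mono] at e
  rw [e]

end Groth.Agent.SchCover
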